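import Cfsg.Agent.Lib.Lie.BoundedPres.SL.Mat
import Cfsg.Agent.Lib.Lie.BoundedPres.SLRel
import Cfsg.Agent.Lib.Perm.Groups.AltAut

/-!
# An alternating group glued to `SL₃(F)` gives `SL_n(F)`
-/

set_option autoImplicit false

namespace CfsgLib.Lie.BoundedPres

open Matrix CfsgLib.Lie.ShortPres CfsgLib.Char.SingleBond

variable {F : Type*} [Field F] {n : ℕ} {G : Type} [Group G]

/-- the first three points -/
def pt (hn : 4 ≤ n) (k : Fin 3) : Fin n := four hn k.castSucc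

theorem pt_inj (hn : 4 ≤ n) : Function.Injective (pt hn) := (four_inj hn).comp (Fin.castSucc_injective _)

/-- a product of two transpositions as an even permutation -/
def sw2 {a b c d : Fin n} (h1 : a ≠ b) (h2 : c ≠ d) : alternatingGroup (Fin n) :=
  ⟨Equiv.swap a b * Equiv.swap c d, by
    rw [Equiv.Perm.mem_alternatingGroup, map_mul, Equiv.Perm.sign_swap h1, Equiv.Perm.sign_swap h2,
      Int.units_mul_self]⟩

theorem four_ne (hn : 4 ≤ n) {i j : Fin 4} (h : i ≠ j) : four hn i ≠ four hn j := (four_inj hn).ne h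

/-- `(0 1 2)` -/
def c3 (hn : 4 ≤ n) : alternatingGroup (Fin n) :=
  sw2 (four_ne hn (show (0 : Fin 4) ≠ 1 by decide)) (four_ne hn (show (1 : Fin 4) ≠ 2 by decide))

theorem sw2_four (hn : 4 ≤ n) {a b c d : Fin 4} (h1 : four hn a ≠ four hn b) (h2 : four hn c ≠ four hn d)
    (t : Fin 4) : (sw2 h1 h2).1 (four hn t) = four hn ((Equiv.swap a b * Equiv.swap c d : Equiv.Perm _) t) := by
  show Equiv.swap _ _ (Equiv.swap _ _ (four hn t)) = _
  rw [(four_inj hn).swap_apply, (four_inj hn).swap_apply]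
  rfl

theorem c3_pt (hn : 4 ≤ n) (k : Fin 3) : (c3 hn).1 (pt hn k) = pt hn (k + 1) := by
  rw [c3, pt, sw2_four]
  congr 1
  revert k; decide

/-- the family of the basic root subgroup -/
def xf (ψ : Matrix.SpecialLinearGroup (Fin 3) F →* G) (a : F) : G := ψ (slX 0 1 a)

/-- what gluing needs -/
structure Glue (hn : 4 ≤ n) (ρ : alternatingGroup (Fin n) →* G) (ψ : Matrix.SpecialLinearGroup (Fin 3) F →* G) :
    Prop where
  cyc : ρ (c3 hn) = ψ P3
  stab : Stable hn ρ (xf ψ)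
  flip : ∀ a, famX hn ρ (xf ψ) (pt hn 1) (pt hn 0) a = ψ (slX 1 0 a)
  dis : ∀ a b, Commute (xf ψ a) (famX hn ρ (xf ψ) (four hn 2) (four hn 3) b)

variable {hn : 4 ≤ n} {ρ : alternatingGroup (Fin n) →* G} {ψ : Matrix.SpecialLinearGroup (Fin 3) F →* G}

theorem fam_eq (hc : ρ (c3 hn) = ψ P3) (hst : Stable hn ρ (xf ψ))
    (hfl : ∀ a, famX hn ρ (xf ψ) (pt hn 1) (pt hn 0) a = ψ (slX 1 0 a)) {k l : Fin 3} (h : k ≠ l) (a : F) :
    famX hn ρ (xf ψ) (pt hn k) (pt hn l) a = ψ (slX k l a) := by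
  have h01 : ∀ a, famX hn ρ (xf ψ) (pt hn 0) (pt hn 1) a = ψ (slX 0 1 a) := fun a => by
    have := famX_eq hst (1 : alternatingGroup (Fin n)) a
    simp only [map_one, one_mul, inv_one, mul_one] at this
    exact this
  have step : ∀ {k l : Fin 3}, k ≠ l → (∀ a, famX hn ρ (xf ψ) (pt hn k) (pt hn l) a = ψ (slX k l a)) →
      ∀ a, famX hn ρ (xf ψ) (pt hn (k + 1)) (pt hn (l + 1)) a = ψ (slX (k + 1) (l + 1) a) := by
    intro k l hkl e a
    rw [← c3_pt hn k, ← c3_pt hn l, ← famX_conj hst _ ((pt_inj hn).ne hkl), e, hc, ← map_inv, ← map_mul,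
      ← map_mul, P3_conj hkl]
  fin_cases k <;> fin_cases l
  · exact absurd rfl h
  · exact h01 a
  · exact step (show (2 : Fin 3) ≠ 1 by decide) (step (show (1 : Fin 3) ≠ 0 by decide) hfl) a
  · exact hfl a
  · exact absurd rfl h
  · exact step (show (0 : Fin 3) ≠ 1 by decide) h01 a
  · exact step (show (1 : Fin 3) ≠ 2 by decide) (step (show (0 : Fin 3) ≠ 1 by decide) h01) a
  · exact step (show (1 : Fin 3) ≠ 0 by decide) hfl a
  · exact absurd rfl h

theorem conj_hdiag (hc : ρ (c3 hn) = ψ P3) (hst : Stable hn ρ (xf ψ))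
    (hfl : ∀ a, famX hn ρ (xf ψ) (pt hn 1) (pt hn 0) a = ψ (slX 1 0 a)) (π : alternatingGroup (Fin n))
    {k l k' l' : Fin 3} (h : k ≠ l) (h' : k' ≠ l') (ek : π.1 (pt hn k) = pt hn k')
    (el : π.1 (pt hn l) = pt hn l') (ω : Fˣ) :
    ρ π * ψ (hdiag k l ω) * (ρ π)⁻¹ = ψ (hdiag k' l' ω) := by
  let Θ : Matrix.SpecialLinearGroup (Fin 3) F →* G := (MulAut.conj (ρ π)).toMonoidHom.comp ψ
  have key : ∀ (a b a' b' : Fin 3), a ≠ b → a' ≠ b' → π.1 (pt hn a) = pt hn a' → π.1 (pt hn b) = pt hn b' →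
      ∀ c, Θ (slX a b c) = ψ (slX a' b' c) := by
    intro a b a' b' hab hab' ea eb c
    show ρ π * ψ (slX a b c) * (ρ π)⁻¹ = _
    rw [← fam_eq hc hst hfl hab, famX_conj hst _ ((pt_inj hn).ne hab), ea, eb, fam_eq hc hst hfl hab']
  show Θ (hdiag k l ω) = _
  rw [hdiag_eq h, hdiag_eq h']
  simp only [wel, map_mul, key k l k' l' h h' ek el, key l k l' k' h.symm h'.symm el ek]

/-- one relation spreads over all disjoint pairs -/
theorem dis_of_one [Fintype F] (hc : ρ (c3 hn) = ψ P3) (hst : Stable hn ρ (xf ψ))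
    (hfl : ∀ a, famX hn ρ (xf ψ) (pt hn 1) (pt hn 0) a = ψ (slX 1 0 a)) (ω : Fˣ)
    (hω : ∀ S : F → Prop, S 0 → S 1 → (∀ b c, S b → S c → S (b + c)) →
        (∀ b, S b → S ((ω : F) ^ 2 * b)) → ∀ b, S b)
    (h1 : Commute (xf ψ 1) (famX hn ρ (xf ψ) (four hn 2) (four hn 3) 1)) (a b : F) :
    Commute (xf ψ a) (famX hn ρ (xf ψ) (four hn 2) (four hn 3) b) := by
  set X := famX hn ρ (xf ψ) (four hn 2) (four hn 3) with hX
  have h01 : (0 : Fin 3) ≠ 1 := by decide
  have h02 : (0 : Fin 3) ≠ 2 := by decide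
  have h12 : (1 : Fin 3) ≠ 2 := by decide
  have hx : ∀ (k l : Fin 3) (c : F), ψ (hdiag k l ω) * xf ψ c * (ψ (hdiag k l ω))⁻¹ = xf ψ (wgt k l ω 0 1 * c) :=
    fun k l c => by rw [xf, xf, ← map_inv, ← map_mul, ← map_mul, hdiag_conj _ _ _ h01]
  let β : alternatingGroup (Fin n) :=
    sw2 (four_ne hn (show (0 : Fin 4) ≠ 2 by decide)) (four_ne hn (show (1 : Fin 4) ≠ 3 by decide))
  let γ : alternatingGroup (Fin n) :=
    sw2 (four_ne hn (show (0 : Fin 4) ≠ 1 by decide)) (four_ne hn (show (1 : Fin 4) ≠ 3 by decide))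
  have b0 : β.1 (four hn 0) = four hn 2 := by rw [sw2_four]; rfl
  have b1 : β.1 (four hn 1) = four hn 3 := by rw [sw2_four]; rfl
  have b2 : β.1 (four hn 2) = four hn 0 := by rw [sw2_four]; rfl
  have g0 : γ.1 (four hn 0) = four hn 1 := by rw [sw2_four]; rfl
  have g1 : γ.1 (four hn 1) = four hn 3 := by rw [sw2_four]; rfl
  have g2 : γ.1 (four hn 2) = four hn 2 := by rw [sw2_four]; rfl
  have a02 : ∀ c, ψ (hdiag 0 2 ω) * X c * (ψ (hdiag 0 2 ω))⁻¹ = X ((ω : F)⁻¹ * c) := by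
    intro c
    have eX : ∀ c, X c = ρ β * xf ψ c * (ρ β)⁻¹ := fun c => by rw [hX, ← b0, ← b1]; exact famX_eq hst β c
    rw [← conj_hdiag hc hst hfl β h02.symm h02 b2 b0 ω, eX, eX,
      show ρ β * ψ (hdiag 2 0 ω) * (ρ β)⁻¹ * (ρ β * xf ψ c * (ρ β)⁻¹) * (ρ β * ψ (hdiag 2 0 ω) * (ρ β)⁻¹)⁻¹ =
        ρ β * (ψ (hdiag 2 0 ω) * xf ψ c * (ψ (hdiag 2 0 ω))⁻¹) * (ρ β)⁻¹ by group, hx]
    congr 3
    simp [wgt, Pi.mulSingle_apply]
  have a12 : ∀ c, ψ (hdiag 1 2 ω) * X c * (ψ (hdiag 1 2 ω))⁻¹ = X ((ω : F)⁻¹ * c) := by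
    intro c
    have eX : ∀ c, X c = ρ γ * ψ (slX 2 1 c) * (ρ γ)⁻¹ := fun c => by
      rw [← fam_eq hc hst hfl h12.symm, famX_conj hst _ ((pt_inj hn).ne h12.symm), hX]
      show famX hn ρ (xf ψ) (four hn 2) (four hn 3) c =
        famX hn ρ (xf ψ) (γ.1 (four hn 2)) (γ.1 (four hn 1)) c
      rw [g2, g1]
    rw [← conj_hdiag hc hst hfl γ h02 h12 g0 g2 ω, eX, eX,
      show ρ γ * ψ (hdiag 0 2 ω) * (ρ γ)⁻¹ * (ρ γ * ψ (slX 2 1 c) * (ρ γ)⁻¹) *
          (ρ γ * ψ (hdiag 0 2 ω) * (ρ γ)⁻¹)⁻¹ = ρ γ * ψ (hdiag 0 2 ω * slX 2 1 c * (hdiag 0 2 ω)⁻¹) * (ρ γ)⁻¹ by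
        rw [map_mul, map_mul, map_inv]; group, hdiag_conj _ _ _ h12.symm]
    congr 4
    simp [wgt, Pi.mulSingle_apply]
  set d := ψ (hdiag (F := F) 0 2 ω)
  set e := ψ (hdiag (F := F) 1 2 ω)
  have S1 : ∀ a b, Commute (xf ψ a) (X b) → Commute (xf ψ ((ω : F) * a)) (X ((ω : F)⁻¹ * b)) := fun a b h => by
    have := (Commute.conj_iff d).2 h
    rw [hx, a02, show wgt (0 : Fin 3) 2 ω 0 1 = (ω : F) by simp [wgt, Pi.mulSingle_apply]] at this
    exact this
  have S2 : ∀ a b, Commute (xf ψ a) (X b) → Commute (xf ψ ((ω : F) * a)) (X ((ω : F) * b)) := fun a b h => by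
    refine (Commute.conj_iff e).1 ?_
    rw [hx, a12, show wgt (1 : Fin 3) 2 ω 0 1 = (ω : F)⁻¹ by simp [wgt, Pi.mulSingle_apply],
      inv_mul_cancel_left₀ ω.ne_zero, inv_mul_cancel_left₀ ω.ne_zero]
    exact h
  have S3 : ∀ a b, Commute (xf ψ a) (X b) → Commute (xf ψ ((ω : F) ^ 2 * a)) (X b) := fun a b h => by
    have := S2 _ _ (S1 a b h)
    rwa [← mul_assoc, ← sq, mul_inv_cancel_left₀ ω.ne_zero] at this
  have hxadd : ∀ a c, xf ψ (a + c) = xf ψ a * xf ψ c := fun a c => by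
    rw [xf, stRel_slX.add h01, map_mul]; rfl
  have hx0 : xf ψ 0 = 1 := by
    have := hxadd 0 0
    rwa [add_zero, left_eq_mul] at this
  have hXadd : ∀ a c, X (a + c) = X a * X c := fun a c => by
    simp only [hX, ← b0, ← b1, famX_eq hst, hxadd]; group
  have hX0 : X 0 = 1 := by
    have := hXadd 0 0
    rwa [add_zero, left_eq_mul] at this
  have all1 : ∀ a, Commute (xf ψ a) (X 1) := hω (fun a => Commute (xf ψ a) (X 1))
    (by rw [hx0]; exact Commute.one_left _) h1 (fun a c ha hc' => by rw [hxadd]; exact ha.mul_left hc')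
    fun a ha => S3 a 1 ha
  revert a
  refine hω (fun b => ∀ a, Commute (xf ψ a) (X b)) (fun a => by rw [hX0]; exact Commute.one_right _) all1
    (fun b c hb hc' a => by rw [hXadd]; exact (hb a).mul_right (hc' a)) (fun b hb a => ?_) b
  have := S2 _ _ (S2 _ _ (hb (((ω : F) ^ 2)⁻¹ * a)))
  rwa [← mul_assoc (ω : F) ω, ← sq, mul_inv_cancel_left₀ (pow_ne_zero 2 ω.ne_zero), ← mul_assoc (ω : F) ω,
    ← sq] at this

theorem exists_triple (hn : 4 ≤ n) {i j k : Fin n} (hij : i ≠ j) (hik : i ≠ k) (hjk : j ≠ k) :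
    ∃ (π : alternatingGroup (Fin n)) (a b c : Fin 3), a ≠ b ∧ a ≠ c ∧ b ≠ c ∧
      π.1 (pt hn a) = i ∧ π.1 (pt hn b) = j ∧ π.1 (pt hn c) = k := by
  obtain ⟨π, hπ⟩ := exists_even_map (pt hn) ![i, j, k] (pt_inj hn)
    (by intro p q; fin_cases p <;> fin_cases q <;> simp [hij, hik, hjk, hij.symm, hik.symm, hjk.symm])
    (pt hn 0) (pt hn 1) ((pt_inj hn).ne (by decide))
  rcases hπ with h | h
  · exact ⟨π, 0, 1, 2, by decide, by decide, by decide, h 0, h 1, h 2⟩
  · simp only [(pt_inj hn).swap_apply] at h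
    exact ⟨π, 1, 0, 2, by decide, by decide, by decide, h 0, h 1, h 2⟩

variable (g : Glue hn ρ ψ)
include g

theorem Glue.stRel : StRel (famX hn ρ (xf ψ)) := by
  set X := famX hn ρ (xf ψ) with hX
  -- three indices
  have three : ∀ {i j k : Fin n}, i ≠ j → i ≠ k → j ≠ k → ∃ (Θ : Matrix.SpecialLinearGroup (Fin 3) F →* G)
      (a b c : Fin 3), a ≠ b ∧ a ≠ c ∧ b ≠ c ∧ (∀ t, X i j t = Θ (slX a b t)) ∧ (∀ t, X j k t = Θ (slX b c t)) ∧
      (∀ t, X i k t = Θ (slX a c t)) ∧ (∀ t, X k j t = Θ (slX c b t)) ∧ (∀ t, X k i t = Θ (slX c a t)) := by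
    intro i j k hij hik hjk
    obtain ⟨π, a, b, c, hab, hac, hbc, rfl, rfl, rfl⟩ := exists_triple hn hij hik hjk
    refine ⟨(MulAut.conj (ρ π)).toMonoidHom.comp ψ, a, b, c, hab, hac, hbc, ?_, ?_, ?_, ?_, ?_⟩ <;>
      intro t <;>
      show _ = ρ π * ψ _ * (ρ π)⁻¹
    all_goals
      first
        | rw [← fam_eq g.cyc g.stab g.flip hab, famX_conj g.stab _ ((pt_inj hn).ne hab)]
        | rw [← fam_eq g.cyc g.stab g.flip hbc, famX_conj g.stab _ ((pt_inj hn).ne hbc)]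
        | rw [← fam_eq g.cyc g.stab g.flip hac, famX_conj g.stab _ ((pt_inj hn).ne hac)]
        | rw [← fam_eq g.cyc g.stab g.flip hbc.symm, famX_conj g.stab _ ((pt_inj hn).ne hbc.symm)]
        | rw [← fam_eq g.cyc g.stab g.flip hac.symm, famX_conj g.stab _ ((pt_inj hn).ne hac.symm)]
  have R := stRel_slX (F := F) (n := 3)
  have row : ∀ {i j k : Fin n}, i ≠ j → i ≠ k → j ≠ k → ∀ t u, X i j t * X i k u = X i k u * X i j t := by
    intro i j k h1 h2 h3 t u
    obtain ⟨Θ, a, b, c, hab, hac, hbc, eij, -, eik, -, -⟩ := three h1 h2 h3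
    rw [eij, eik, ← map_mul, ← map_mul, R.comm hab hac hac hab.symm]
  have col : ∀ {i j k : Fin n}, i ≠ j → i ≠ k → j ≠ k → ∀ t u, X i j t * X k j u = X k j u * X i j t := by
    intro i j k h1 h2 h3 t u
    obtain ⟨Θ, a, b, c, hab, hac, hbc, eij, -, -, ekj, -⟩ := three h1 h2 h3
    rw [eij, ekj, ← map_mul, ← map_mul, R.comm hab hbc.symm hab hbc]
  have prod : ∀ {i j k : Fin n}, i ≠ j → j ≠ k → i ≠ k → ∀ t u,
      X i j t * X j k u * (X i j t)⁻¹ * (X j k u)⁻¹ = X i k (t * u) := by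
    intro i j k h1 h2 h3 t u
    obtain ⟨Θ, a, b, c, hab, hac, hbc, eij, ejk, eik, -, -⟩ := three h1 h3 h2
    rw [eij, ejk, eik, ← map_inv, ← map_inv, ← map_mul, ← map_mul, ← map_mul, R.prod hab hbc hac]
  have n4 : ∀ {i j : Fin 4}, i ≠ j → four hn i ≠ four hn j := fun h => four_ne hn h
  -- the second class of disjoint pairs
  have dis' : ∀ t u, Commute (X (four hn 1) (four hn 0) t) (X (four hn 2) (four hn 3) u) := by
    intro t u
    set z := X (four hn 2) (four hn 3) u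
    set A := X (four hn 1) (four hn 2) t
    set B := X (four hn 2) (four hn 0) 1
    set M := X (four hn 1) (four hn 3) (t * u) with hM
    have hzB : Commute z B := row (n4 (by decide)) (n4 (by decide)) (n4 (by decide)) _ _
    have hMA : Commute M A := row (n4 (by decide)) (n4 (by decide)) (n4 (by decide)) _ _
    let γ : alternatingGroup (Fin n) :=
      sw2 (four_ne hn (show (0 : Fin 4) ≠ 1 by decide)) (four_ne hn (show (1 : Fin 4) ≠ 3 by decide))
    have hMB : Commute M B := by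
      have := (Commute.conj_iff (ρ γ)).2 (g.dis (t * u) 1)
      rw [show xf ψ (t * u) = famX hn ρ (xf ψ) (four hn 0) (four hn 1) (t * u) from
          (fam_eq g.cyc g.stab g.flip (show (0 : Fin 3) ≠ 1 by decide) (t * u)).symm,
        famX_conj g.stab _ (n4 (show (0 : Fin 4) ≠ 1 by decide)),
        famX_conj g.stab _ (n4 (show (2 : Fin 4) ≠ 3 by decide)),
        show γ.1 (four hn 0) = four hn 1 by rw [sw2_four]; rfl,
        show γ.1 (four hn 1) = four hn 3 by rw [sw2_four]; rfl,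
        show γ.1 (four hn 2) = four hn 2 by rw [sw2_four]; rfl,
        show γ.1 (four hn 3) = four hn 0 by rw [sw2_four]; rfl] at this
      exact this
    have e : z * A * z⁻¹ = M⁻¹ * A := by
      rw [hM, ← prod (n4 (show (1 : Fin 4) ≠ 2 by decide)) (n4 (show (2 : Fin 4) ≠ 3 by decide))
        (n4 (show (1 : Fin 4) ≠ 3 by decide)) t u]
      show z * A * z⁻¹ = (A * z * A⁻¹ * z⁻¹)⁻¹ * A
      group
    have e2 : X (four hn 1) (four hn 0) t = A * B * A⁻¹ * B⁻¹ := by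
      have := prod (n4 (show (1 : Fin 4) ≠ 2 by decide)) (n4 (show (2 : Fin 4) ≠ 0 by decide))
        (n4 (show (1 : Fin 4) ≠ 0 by decide)) t 1
      rw [mul_one] at this
      exact this.symm
    rw [e2]
    have e3 : z * (A * B * A⁻¹ * B⁻¹) * z⁻¹ = A * B * A⁻¹ * B⁻¹ := by
      calc z * (A * B * A⁻¹ * B⁻¹) * z⁻¹
          = (z * A * z⁻¹) * (z * B * z⁻¹) * (z * A * z⁻¹)⁻¹ * (z * B * z⁻¹)⁻¹ := by group
        _ = M⁻¹ * (A * B * A⁻¹) * M * B⁻¹ := by rw [e, hzB.eq, mul_inv_cancel_right]; group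
        _ = _ := by
            have hc : Commute M (A * B * A⁻¹) := (hMA.mul_right hMB).mul_right hMA.inv_right
            rw [mul_assoc M⁻¹, ← hc.eq, inv_mul_cancel_left]
    exact (mul_inv_eq_iff_eq_mul.1 e3).symm
  refine ⟨?_, ?_, fun {i j k} a b c => prod a b c⟩
  · intro i j h t u
    obtain ⟨π, rfl, rfl⟩ := exists_pair_map hn _ _ i j (four01 hn) h
    simp only [hX, famX_eq g.stab, xf, stRel_slX.add (show (0 : Fin 3) ≠ 1 by decide), map_mul]
    group
  · intro i j k l hij hkl hil hjk t u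
    by_cases hik : i = k
    · subst hik
      by_cases hjl : j = l
      · subst hjl
        obtain ⟨π, rfl, rfl⟩ := exists_pair_map hn _ _ i j (four01 hn) hij
        simp only [hX, famX_eq g.stab, xf]
        have := congrArg (fun y => ρ π * ψ y * (ρ π)⁻¹) (R.comm (show (0 : Fin 3) ≠ 1 by decide)
          (show (0 : Fin 3) ≠ 1 by decide) (show (0 : Fin 3) ≠ 1 by decide) (show (1 : Fin 3) ≠ 0 by decide) t u)
        simp only [map_mul] at this
        convert this using 1 <;> group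
      · exact row hij hkl hjl t u
    by_cases hjl : j = l
    · subst hjl; exact col hij hik hjk t u
    obtain ⟨π, hπ⟩ := exists_even_map (four hn) ![i, j, k, l] (four_inj hn)
      (by intro p q; fin_cases p <;> fin_cases q <;>
            simp [hij, hkl, hil, hjk, hik, hjl, hij.symm, hkl.symm, hil.symm, hjk.symm, Ne.symm hik, Ne.symm hjl])
      (four hn 0) (four hn 1) (four01 hn)
    rcases hπ with h | h
    · have := (Commute.conj_iff (ρ π)).2 (g.dis t u)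
      rw [show xf ψ t = X (pt hn 0) (pt hn 1) t from (fam_eq g.cyc g.stab g.flip (by decide) t).symm,
        hX, famX_conj g.stab _ ((pt_inj hn).ne (by decide)), famX_conj g.stab _ (n4 (by decide))] at this
      rw [hX, show i = π.1 (pt hn 0) from (h 0).symm, show j = π.1 (pt hn 1) from (h 1).symm,
        show k = π.1 (four hn 2) from (h 2).symm, show l = π.1 (four hn 3) from (h 3).symm]
      exact this.eq
    · simp only [(four_inj hn).swap_apply] at h
      have := (Commute.conj_iff (ρ π)).2 (dis' t u)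
      rw [hX, famX_conj g.stab _ (n4 (by decide)), famX_conj g.stab _ (n4 (by decide))] at this
      rw [hX, show i = π.1 (four hn 1) from (h 0).symm, show j = π.1 (four hn 0) from (h 1).symm,
        show k = π.1 (four hn 2) from (h 2).symm, show l = π.1 (four hn 3) from (h 3).symm]
      exact this.eq

/-- the homomorphism -/
theorem Glue.exists_hom [Finite F] : ∃ φ : Matrix.SpecialLinearGroup (Fin n) F →* G,
    (∀ σ, φ (pmat σ) = ρ σ) ∧ ∀ i j : Fin 3, i ≠ j → ∀ c, φ (slX (pt hn i) (pt hn j) c) = ψ (slX i j c) := by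
  classical
  obtain ⟨φ, hφ⟩ := g.stRel.exists_hom (by omega)
  have hX : ∀ i j : Fin n, i ≠ j → ∀ c, φ (slX i j c) = famX hn ρ (xf ψ) i j c := fun i j h c => by
    rw [slX_eq h]; exact hφ i j h c
  have h3 : ∀ i j : Fin 3, i ≠ j → ∀ c, φ (slX (pt hn i) (pt hn j) c) = ψ (slX i j c) := fun i j h c => by
    rw [hX _ _ ((pt_inj hn).ne h), fam_eq g.cyc g.stab g.flip h]
  refine ⟨φ, ?_, h3⟩
  have hcj : ∀ π y, φ (pmat π * y * (pmat π)⁻¹) = ρ π * φ y * (ρ π)⁻¹ := by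
    intro π y
    have e : φ.comp (MulAut.conj (pmat (F := F) π)).toMonoidHom = (MulAut.conj (ρ π)).toMonoidHom.comp φ :=
      sl_hom_ext fun i j h c => by
        show φ (pmat π * _ * (pmat π)⁻¹) = ρ π * φ _ * (ρ π)⁻¹
        rw [← slX_eq h, pmat_conj _ h, hX _ _ (π.1.injective.ne h), hX _ _ h, famX_conj g.stab _ h]
    exact DFunLike.congr_fun e y
  have hc : φ (pmat (c3 hn)) = ρ (c3 hn) := by
    rw [pmat_three ((pt_inj hn).ne (show (0 : Fin 3) ≠ 1 by decide)) ((pt_inj hn).ne (show (0 : Fin 3) ≠ 2 by decide))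
      ((pt_inj hn).ne (show (1 : Fin 3) ≠ 2 by decide)) (c3 hn) rfl, g.cyc, P3,
      pmat_three (show (0 : Fin 3) ≠ 1 by decide) (show (0 : Fin 3) ≠ 2 by decide)
        (show (1 : Fin 3) ≠ 2 by decide) c3A rfl]
    simp only [wel, map_mul]
    rw [h3 0 1 (by decide), h3 1 0 (by decide), h3 1 2 (by decide), h3 2 1 (by decide)]
  let E : Subgroup (alternatingGroup (Fin n)) := (φ.comp pmat).eqLocus ρ
  have hcE : c3 hn ∈ E := hc
  have hconj : ∀ π, π * c3 hn * π⁻¹ ∈ E := fun π => by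
    show φ (pmat (π * c3 hn * π⁻¹)) = ρ (π * c3 hn * π⁻¹)
    rw [map_mul pmat, map_mul pmat, map_inv pmat, hcj, hc, map_mul ρ, map_mul ρ, map_inv ρ]
  have hle : alternatingGroup (Fin n) ≤ E.map (alternatingGroup (Fin n)).subtype := by
    refine CfsgLib.Perm.Groups.AltAut.cyc_closure (four01 hn) fun z hz0 hz1 => ?_
    obtain ⟨π, hπ⟩ := exists_even_map (pt hn) ![four hn 0, four hn 1, z] (pt_inj hn)
      (by intro p q; fin_cases p <;> fin_cases q <;>
            simp [four01 hn, (four01 hn).symm, hz0, hz1, Ne.symm hz0, Ne.symm hz1])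
      (pt hn 0) (pt hn 1) ((pt_inj hn).ne (by decide))
    have key : (π * c3 hn * π⁻¹).1 =
        Equiv.swap (π.1 (pt hn 0)) (π.1 (pt hn 1)) * Equiv.swap (π.1 (pt hn 1)) (π.1 (pt hn 2)) := by
      show π.1 * (Equiv.swap (pt hn 0) (pt hn 1) * Equiv.swap (pt hn 1) (pt hn 2)) * π.1⁻¹ = _
      rw [← conj_mul, ← Equiv.swap_apply_apply, ← Equiv.swap_apply_apply]
    rcases hπ with h | h
    · refine ⟨_, hconj π, ?_⟩
      show (π * c3 hn * π⁻¹).1 = _
      rw [key, h 0, h 1, h 2]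
      rfl
    · simp only [(pt_inj hn).swap_apply] at h
      refine ⟨_, inv_mem (hconj π), ?_⟩
      show ((π * c3 hn * π⁻¹).1)⁻¹ = _
      rw [key, show π.1 (pt hn 0) = four hn 1 from h 1, show π.1 (pt hn 1) = four hn 0 from h 0,
        show π.1 (pt hn 2) = z from h 2, CfsgLib.Perm.Groups.AltAut.cyc, inv_eq_iff_mul_eq_one]
      ext x
      simp only [Equiv.Perm.mul_apply, Equiv.swap_apply_def, Equiv.Perm.one_apply]
      grind
  intro σ
  obtain ⟨τ, hτ, e⟩ := hle σ.2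
  rw [← show τ = σ from Subtype.ext e]
  exact hτ

end CfsgLib.Lie.BoundedPres
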