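import Cfsg.Agent.Lib.Lie.BoundedPres.AltStab

/-!
# An even permutation generating the alternating group together with a three-cycle
-/

set_option autoImplicit false

namespace CfsgLib.Lie.BoundedPres

open Equiv Equiv.Perm

theorem alt_le_of_cycP {m : ℕ} {G : Subgroup (Perm (Pt m))} (h : ∀ i, cycP i ∈ G) :
    alternatingGroup (Pt m) ≤ G := by
  have hle : Subgroup.closure (Set.range (cyc (m := m))) ≤ G.comap (alternatingGroup (Pt m)).subtype := by
    refine (Subgroup.closure_le _).2 ?_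
    rintro _ ⟨i, rfl⟩
    exact h i
  exact fun x hx => hle (show (⟨x, hx⟩ : alternatingGroup (Pt m)) ∈ _ by rw [closure_cyc]; trivial)

theorem pt_three_mate (m : ℕ) (hm : 0 < m) : ∃ σ : Perm (Pt m), σ ∈ alternatingGroup (Pt m) ∧
    alternatingGroup (Pt m) ≤ Subgroup.closure {cycP ⟨0, hm⟩, σ} := by
  set R : Perm (Pt m) := Perm.sumCongr 1 (finRotate m) with hR
  set i0 : Fin m := ⟨0, hm⟩
  have hRpow : ∀ t : ℕ, R ^ t = Perm.sumCongr 1 (finRotate m ^ t) := by
    intro t
    induction t with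
    | zero => simp
    | succ t ih => rw [pow_succ, ih, hR, Perm.sumCongr_mul, pow_succ, one_mul]
  have hRi : ∀ (t : ℕ) (h : t < m), (R ^ t) (.inr i0) = .inr ⟨t, h⟩ := fun t h => by
    rw [hRpow]; simp [i0, rotate_pow hm t h]
  have hsignR : sign R = (-1) ^ (m - 1) := by
    rw [hR, sign_sumCongr, map_one, one_mul]
    obtain ⟨k, rfl⟩ : ∃ k, m = k + 1 := ⟨m - 1, by omega⟩
    rw [sign_finRotate]
  rcases Nat.even_or_odd m with hev | hodd
  · refine ⟨swap (.inl 0) (.inr i0) * R, ?_, ?_⟩
    · rw [mem_alternatingGroup, map_mul, sign_swap (by simp), hsignR]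
      obtain ⟨k, hk⟩ := hev
      rw [show m - 1 = 2 * (k - 1) + 1 by omega, pow_succ, pow_mul]
      simp
    set σ : Perm (Pt m) := swap (.inl 0) (.inr i0) * R with hσ
    set G := Subgroup.closure ({cycP i0, σ} : Set (Perm (Pt m)))
    have hσG : σ ∈ G := Subgroup.subset_closure (Set.mem_insert_of_mem _ rfl)
    have hc0 : cycP i0 ∈ G := Subgroup.subset_closure (Set.mem_insert _ _)
    have hσR : ∀ (t : ℕ) (h : t < m), (σ ^ t) (.inr i0) = .inr ⟨t, h⟩ := by
      intro t
      induction t with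
      | zero => intro h; rfl
      | succ t ih =>
        intro h
        rw [pow_succ', Perm.mul_apply, ih (by omega), ← hRi t (by omega), hσ, Perm.mul_apply,
          ← Perm.mul_apply R, ← pow_succ', hRi _ h]
        exact swap_apply_of_ne_of_ne (by simp) (fun e => by simp [i0] at e)
    have hσ1 : ∀ t : ℕ, (σ ^ t) (.inl 1) = .inl 1 := by
      intro t
      induction t with
      | zero => rfl
      | succ t ih =>
        rw [pow_succ', Perm.mul_apply, ih, hσ, Perm.mul_apply, hR]
        simp [swap_apply_def]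
    have hσ0 : ∀ (t : ℕ) (h : t < m), (σ ^ (t + 1)) (.inl 0) = .inr ⟨t, h⟩ := fun t h => by
      rw [pow_succ, Perm.mul_apply, ← hσR t h]
      congr 1
    suffices ∀ (j : ℕ) (h : j < m), cycP ⟨j, h⟩ ∈ G from alt_le_of_cycP fun i => this i.val i.isLt
    intro j
    induction j with
    | zero => intro h; exact hc0
    | succ j ih =>
      intro h
      have hg : (σ ^ (j + 1)) * cycP i0 * (σ ^ (j + 1))⁻¹ ∈ G :=
        mul_mem (mul_mem (pow_mem hσG _) hc0) (inv_mem (pow_mem hσG _))
      have eg : (σ ^ (j + 1)) * cycP i0 * (σ ^ (j + 1))⁻¹ =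
          swap (.inr ⟨j, by omega⟩) (.inl 1) * swap (.inl 1) (.inr ⟨j + 1, h⟩) := by
        rw [cycP, ← conj_mul, ← swap_apply_apply, ← swap_apply_apply, hσ0 j (by omega), hσ1, hσR _ h]
      rw [eg] at hg
      have h2 := mul_mem (mul_mem hg (ih (by omega))) (inv_mem hg)
      refine (Subgroup.inv_mem_iff _).1 ?_
      convert h2 using 1
      rw [eq_mul_inv_iff_mul_eq, inv_mul_eq_iff_eq_mul]
      ext x
      rcases x with x | x
      · fin_cases x <;> simp [cycP, swap_apply_def]
      · by_cases h1 : x = ⟨j, by omega⟩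
        · subst h1; simp [cycP, swap_apply_def]
        · by_cases h2 : x = ⟨j + 1, h⟩
          · subst h2; simp [cycP, swap_apply_def]
          · simp [cycP, swap_apply_def, h1, h2]
  · refine ⟨cycP i0 * R, ?_, ?_⟩
    · rw [mem_alternatingGroup, map_mul, hsignR, show sign (cycP i0) = 1 from cycP_mem i0, one_mul]
      obtain ⟨k, hk⟩ := hodd
      rw [show m - 1 = 2 * k by omega, pow_mul]
      simp
    set σ : Perm (Pt m) := cycP i0 * R with hσ
    set G := Subgroup.closure ({cycP i0, σ} : Set (Perm (Pt m)))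
    have hσG : σ ∈ G := Subgroup.subset_closure (Set.mem_insert_of_mem _ rfl)
    have hc0 : cycP i0 ∈ G := Subgroup.subset_closure (Set.mem_insert _ _)
    have hRG : R ∈ G := by
      have := mul_mem (inv_mem hc0) hσG
      rwa [hσ, inv_mul_cancel_left] at this
    refine alt_le_of_cycP fun i => ?_
    have e : R ^ i.val * cycP i0 * (R ^ i.val)⁻¹ = cycP i := by
      rw [cycP, ← conj_mul, ← swap_apply_apply, ← swap_apply_apply, hRi _ i.isLt, hRpow, cycP]
      simp
    rw [← e]
    exact mul_mem (mul_mem (pow_mem hRG _) hc0) (inv_mem (pow_mem hRG _))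

theorem exists_three_mate {α : Type*} [Fintype α] [DecidableEq α] (a b c : α) (hab : a ≠ b) (hac : a ≠ c)
    (hbc : b ≠ c) : ∃ σ : Perm α, σ ∈ alternatingGroup α ∧
      alternatingGroup α ≤ Subgroup.closure {swap a b * swap b c, σ} := by
  have h3 : 3 ≤ Fintype.card α := by
    have h1 : ({a, b, c} : Finset α).card = 3 := by
      rw [Finset.card_insert_of_notMem (by simp [hab, hac]), Finset.card_pair hbc]
    exact h1 ▸ Finset.card_le_univ _
  obtain ⟨m, hm⟩ : ∃ m, Fintype.card α = m + 2 := ⟨Fintype.card α - 2, by omega⟩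
  have hm0 : 0 < m := by omega
  let e₀ : Pt m ≃ α := Fintype.equivOfCardEq (by simp [hm]; omega)
  obtain ⟨ε, hε⟩ := Equiv.Perm.exists_extending_pair
    ![e₀ (.inl 0), e₀ (.inl 1), e₀ (.inr ⟨0, hm0⟩)] ![a, b, c]
    (by intro p q; fin_cases p <;> fin_cases q <;> simp)
    (by intro p q; fin_cases p <;> fin_cases q <;> simp [hab, hab.symm, hac, hac.symm, hbc, hbc.symm])
  let e : Pt m ≃ α := e₀.trans ε
  have ea : e (.inl 0) = a := hε 0
  have eb : e (.inl 1) = b := hε 1
  have ec : e (.inr ⟨0, hm0⟩) = c := hε 2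
  obtain ⟨σ, hσ, hle⟩ := pt_three_mate m hm0
  have hsw : ∀ u v, Equiv.permCongrHom e (swap u v) = swap (e u) (e v) := fun u v =>
    Equiv.ext fun x => by simp [Equiv.permCongrHom, swap_apply_def, Equiv.symm_apply_eq]; split_ifs <;> simp_all
  have hs : Equiv.permCongrHom e (cycP ⟨0, hm0⟩) = swap a b * swap b c := by
    rw [cycP, map_mul, hsw, hsw, ea, eb, ec]
  refine ⟨Equiv.permCongrHom e σ, by simpa [Equiv.permCongrHom] using hσ, fun x hx => ?_⟩
  have hy : (Equiv.permCongrHom e).symm x ∈ alternatingGroup (Pt m) := by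
    simpa [Equiv.permCongrHom] using hx
  have hm' := Subgroup.mem_map_of_mem (Equiv.permCongrHom e).toMonoidHom (hle hy)
  rw [MonoidHom.map_closure, Set.image_pair] at hm'
  simp only [MulEquiv.coe_toMonoidHom, hs, MulEquiv.apply_symm_apply] at hm'
  exact hm'

/-- a three-cycle and one more element generate the even permutations fixing two points -/
theorem exists_stab_mate {n : ℕ} {a b x y z : Fin n} (hab : ∀ t ∈ ({x, y, z} : Finset (Fin n)), t ≠ a ∧ t ≠ b)
    (hxy : x ≠ y) (hxz : x ≠ z) (hyz : y ≠ z) :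
    ∃ π : alternatingGroup (Fin n), π.1 a = a ∧ π.1 b = b ∧
      ∀ σ : alternatingGroup (Fin n), σ.1 a = a → σ.1 b = b →
        σ.1 ∈ Subgroup.closure ({swap x y * swap y z, π.1} : Set (Perm (Fin n))) := by
  classical
  set s : Finset (Fin n) := Finset.univ.filter fun t => t ≠ a ∧ t ≠ b with hs
  have hmem : ∀ t ∈ ({x, y, z} : Finset (Fin n)), t ∈ s := fun t ht => by simp [hs, hab t ht]
  obtain ⟨π, hπ, hle⟩ := exists_three_mate (α := s) ⟨x, hmem x (by simp)⟩ ⟨y, hmem y (by simp)⟩
    ⟨z, hmem z (by simp)⟩ (by simpa using hxy) (by simpa using hxz) (by simpa using hyz)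
  refine ⟨⟨Perm.ofSubtype π, by rw [mem_alternatingGroup, sign_ofSubtype]; exact hπ⟩, ?_, ?_, fun σ ha hb => ?_⟩
  · exact Perm.ofSubtype_apply_of_not_mem _ (by simp [hs])
  · exact Perm.ofSubtype_apply_of_not_mem _ (by simp [hs])
  have hiff : ∀ t, σ.1 t ∈ s ↔ t ∈ s := fun t => by
    simp only [hs, Finset.mem_filter, Finset.mem_univ, true_and, ne_eq]
    constructor
    · rintro ⟨h1, h2⟩
      exact ⟨fun e => h1 (e ▸ ha), fun e => h2 (e ▸ hb)⟩
    · rintro ⟨h1, h2⟩
      exact ⟨fun e => h1 (σ.1.injective (e.trans ha.symm)), fun e => h2 (σ.1.injective (e.trans hb.symm))⟩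
  have e : Perm.ofSubtype (σ.1.subtypePerm hiff) = σ.1 := by
    refine Perm.ofSubtype_subtypePerm _ fun t ht => ?_
    simp only [hs, Finset.mem_filter, Finset.mem_univ, true_and, ne_eq]
    exact ⟨fun h => ht (by rw [h, ha]), fun h => ht (by rw [h, hb])⟩
  have hev : σ.1.subtypePerm hiff ∈ alternatingGroup s := by
    rw [mem_alternatingGroup, ← sign_ofSubtype, e]
    exact σ.2
  have := Subgroup.mem_map_of_mem (Perm.ofSubtype (p := (· ∈ s))) (hle hev)
  rw [MonoidHom.map_closure, Set.image_pair, e, map_mul, ofSubtype_swap_eq, ofSubtype_swap_eq] at this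
  exact this

end CfsgLib.Lie.BoundedPres
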