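import Cfsg.Agent.Lib.Lie.BoundedPres.SL.Glue
import Cfsg.Agent.Lib.Lie.BoundedPres.SL.Three
import Cfsg.Agent.Lib.Lie.BoundedPres.SL.StabGen
import Cfsg.Agent.Lib.Lie.BoundedPres.SysPres
import Cfsg.Agent.Lib.Lie.BoundedPres.Alt.Pres

/-!
# `SL_n(F)` from systems for `A_n` and `SL₃(F)` and a few linking relations
-/

set_option autoImplicit false

namespace CfsgLib.Lie.BoundedPres

open Matrix CfsgLib.Lie.ShortPres CfsgLib.Char.SingleBond

variable {F : Type*} [Field F] {n : ℕ}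

theorem emb_hdiag {e : Matrix.SpecialLinearGroup (Fin 3) F →* Matrix.SpecialLinearGroup (Fin n) F} {hn : 4 ≤ n}
    (he : ∀ i j, i ≠ j → ∀ c, e (slX i j c) = slX (pt hn i) (pt hn j) c) {i j : Fin 3} (h : i ≠ j) (ω : Fˣ) :
    e (hdiag i j ω) = hdiag (pt hn i) (pt hn j) ω := by
  rw [hdiag_eq h, hdiag_eq ((pt_inj hn).ne h)]
  simp only [wel, map_mul, he i j h, he j i h.symm]

/-- the values of homomorphisms as a map of letters -/
abbrev both {G : Type*} [Group G] (ρ : alternatingGroup (Fin n) →* G)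
    (ψ : Matrix.SpecialLinearGroup (Fin 3) F →* G) :
    FreeGroup (alternatingGroup (Fin n) ⊕ Matrix.SpecialLinearGroup (Fin 3) F) →* G :=
  FreeGroup.lift (Sum.elim ρ ψ)

theorem sys_of_links [Finite F] (hn : 4 ≤ n) {k r l : ℕ} (hA : HasSysJ (alternatingGroup (Fin n)) k r 0)
    (L : List (FreeGroup (alternatingGroup (Fin n) ⊕ Matrix.SpecialLinearGroup (Fin 3) F))) (hl : L.length ≤ l)
    (hval : ∀ e : Matrix.SpecialLinearGroup (Fin 3) F →* Matrix.SpecialLinearGroup (Fin n) F,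
      (∀ i j, i ≠ j → ∀ c, e (slX i j c) = slX (pt hn i) (pt hn j) c) → ∀ w ∈ L, both pmat e w = 1)
    (hglue : ∀ (G : Type) [Group G] (ρ : alternatingGroup (Fin n) →* G)
      (ψ : Matrix.SpecialLinearGroup (Fin 3) F →* G),
      ρ (c3 hn) = ψ P3 → (∀ w ∈ L, both ρ ψ w = 1) → Glue hn ρ ψ) :
    HasSysJ (Matrix.SpecialLinearGroup (Fin n) F) (k + 4) (r + 13 + (l + 1)) 0 := by
  classical
  haveI := Fintype.ofFinite F
  obtain ⟨e, he⟩ := exists_emb (F := F) le_rfl (pt hn) (pt_inj hn)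
  obtain ⟨g3, R3, hR3, hv3, hg4, htop, hhom3⟩ := sl_three F
  obtain ⟨ι, hι, gA, RA, VA, J, hk, hr, hvalA, hcovA, hhomA, hJ, hJV⟩ := hA
  have hJ0 : ∀ x, FreeGroup.of x ∈ VA := fun x =>
    hJV x (by rw [Finset.card_eq_zero.1 (Nat.le_zero.1 hJ)]; simp)
  have hVA : ∀ v, v ∈ VA := fun v => by
    induction v using FreeGroup.induction_on with
    | C1 => exact one_mem _
    | of x => exact hJ0 x
    | inv_of x hx => exact inv_mem hx
    | mul x y hx hy => exact mul_mem hx hy
  choose wA hwA hwA' using hcovA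
  have hw3e : ∀ s, ∃ w, FreeGroup.lift g3 w = s := fun s => by
    have : (FreeGroup.lift g3).range = ⊤ := by rw [FreeGroup.range_lift_eq_closure, htop]
    exact (this ▸ Subgroup.mem_top s : s ∈ (FreeGroup.lift g3).range)
  choose w3₀ hw3₀ using hw3e
  let w3 : Matrix.SpecialLinearGroup (Fin 3) F → FreeGroup (Fin 4) := fun s =>
    if Fintype.card F = 4 ∧ s = gc then FreeGroup.of 2 else w3₀ s
  have hw3 : ∀ s, FreeGroup.lift g3 (w3 s) = s := fun s => by
    simp only [w3]
    split_ifs with h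
    · rw [FreeGroup.lift_apply_of, hg4 h.1, h.2]
    · exact hw3₀ s
  let inA : FreeGroup ι →* FreeGroup (ι ⊕ Fin 4) := FreeGroup.map Sum.inl
  let in3 : FreeGroup (Fin 4) →* FreeGroup (ι ⊕ Fin 4) := FreeGroup.map Sum.inr
  let W : FreeGroup (alternatingGroup (Fin n) ⊕ Matrix.SpecialLinearGroup (Fin 3) F) →* FreeGroup (ι ⊕ Fin 4) :=
    FreeGroup.lift (Sum.elim (fun σ => inA (wA σ)) fun s => in3 (w3 s))
  let g : ι ⊕ Fin 4 → Matrix.SpecialLinearGroup (Fin n) F := Sum.elim (fun i => pmat (gA i)) fun i => e (g3 i)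
  have hmapA : ∀ {G : Type _} [Group G] (g' : ι ⊕ Fin 4 → G) v,
      FreeGroup.lift g' (inA v) = FreeGroup.lift (fun i => g' (Sum.inl i)) v := fun g' v => lift_map Sum.inl g' v
  have hmap3 : ∀ {G : Type _} [Group G] (g' : ι ⊕ Fin 4 → G) v,
      FreeGroup.lift g' (in3 v) = FreeGroup.lift (fun i => g' (Sum.inr i)) v := fun g' v => lift_map Sum.inr g' v
  have hmapA0 : ∀ {G : Type} [Group G] (g' : ι ⊕ Fin 4 → G) v,
      FreeGroup.lift g' (inA v) = FreeGroup.lift (fun i => g' (Sum.inl i)) v := fun g' v => lift_map Sum.inl g' v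
  have hmap30 : ∀ {G : Type} [Group G] (g' : ι ⊕ Fin 4 → G) v,
      FreeGroup.lift g' (in3 v) = FreeGroup.lift (fun i => g' (Sum.inr i)) v := fun g' v => lift_map Sum.inr g' v
  have hgA : ∀ v, FreeGroup.lift g (inA v) = pmat (FreeGroup.lift gA v) := fun v => by
    rw [hmapA, ← lift_comp_hom]; rfl
  have hg3 : ∀ v, FreeGroup.lift g (in3 v) = e (FreeGroup.lift g3 v) := fun v => by
    rw [hmap3, ← lift_comp_hom]; rfl
  have hgW : ∀ w, FreeGroup.lift g (W w) = both pmat e w := fun w =>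
    DFunLike.congr_fun (FreeGroup.ext_hom ((FreeGroup.lift g).comp W) (both pmat e) fun x => by
      rcases x with σ | s
      · simp [W, both, hgA, hwA']
      · simp [W, both, hg3, hw3]) w
  let cw : FreeGroup (ι ⊕ Fin 4) := inA (wA (c3 hn)) * (in3 (w3 P3))⁻¹
  refine ⟨ι ⊕ Fin 4, inferInstance, g, RA.map inA ++ R3.map in3 ++ (cw :: L.map W), ⊤, ∅, by simp [hk],
    by simp; omega, ?_, ?_, ?_, by simp, fun _ _ => trivial⟩
  · intro w hw
    simp only [List.mem_append, List.mem_map, List.mem_cons] at hw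
    rcases hw with (⟨v, hv, rfl⟩ | ⟨v, hv, rfl⟩) | rfl | ⟨v, hv, rfl⟩
    · rw [hgA, hvalA v hv, map_one]
    · rw [hg3, hv3 v hv, map_one]
    · simp only [cw]
      rw [map_mul, map_inv, hgA, hwA', hg3, hw3, mul_inv_eq_one, P3,
        pmat_three (show (0 : Fin 3) ≠ 1 by decide) (show (0 : Fin 3) ≠ 2 by decide)
          (show (1 : Fin 3) ≠ 2 by decide) c3A rfl,
        pmat_three ((pt_inj hn).ne (show (0 : Fin 3) ≠ 1 by decide)) ((pt_inj hn).ne (show (0 : Fin 3) ≠ 2 by decide))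
          ((pt_inj hn).ne (show (1 : Fin 3) ≠ 2 by decide)) (c3 hn) rfl]
      simp only [wel, map_mul]
      rw [he 0 1 (by decide), he 1 0 (by decide), he 1 2 (by decide), he 2 1 (by decide)]
    · rw [hgW]; exact hval e he v hv
  · intro s
    have htop' : (FreeGroup.lift g).range = ⊤ := by
      refine CfsgLib.Classical.sl_eq_top _ fun i j hij c => ?_
      obtain ⟨π, rfl, rfl⟩ := exists_pair_map hn _ _ i j (four01 hn) hij
      refine ⟨inA (wA π) * in3 (w3 (slX 0 1 c)) * (inA (wA π))⁻¹, ?_⟩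
      rw [map_mul, map_mul, map_inv, hgA, hg3, hwA', hw3, he 0 1 (by decide), pmat_conj _ ((pt_inj hn).ne (by decide)),
        ← slX_eq hij]
      rfl
    obtain ⟨v, hv⟩ := (htop' ▸ Subgroup.mem_top s : s ∈ (FreeGroup.lift g).range)
    exact ⟨v, trivial, hv⟩
  · intro G _ g' hg'
    have hA' : ∀ w ∈ RA, FreeGroup.lift (fun i => g' (Sum.inl i)) w = 1 := fun w hw => by
      rw [← hmapA0]; exact hg' _ (by simp only [List.mem_append, List.mem_map]; exact Or.inl (Or.inl ⟨w, hw, rfl⟩))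
    obtain ⟨ρ, hρ⟩ := hhomA G (fun i => g' (Sum.inl i)) hA'
    have hρ' : ∀ v, FreeGroup.lift g' (inA v) = ρ (FreeGroup.lift gA v) := fun v => by
      rw [hmapA0, hρ v (hVA v)]
    have hcw := hg' cw (by simp)
    simp only [cw, map_mul, map_inv, mul_inv_eq_one, hρ', hwA'] at hcw
    have hcube : Fintype.card F = 4 → g' (Sum.inr 2) ^ 3 = 1 := fun h4 => by
      have h2 : (2 : F) = 0 := by
        have := Nat.cast_card_eq_zero F
        rw [h4] at this
        exact mul_self_eq_zero.1 (show (2 : F) * 2 = 0 by push_cast at this; linear_combination this)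
      have e3 : w3 P3 = FreeGroup.of 2 := by
        simp only [w3]; rw [if_pos ⟨h4, (gc_eq_P3 h2).symm⟩]
      rw [e3, hmap30, FreeGroup.lift_apply_of] at hcw
      rw [← hcw, ← map_pow, show c3 hn ^ 3 = 1 from ?_, map_one]
      refine Subtype.ext ?_
      have h := (CfsgLib.Perm.Groups.AltAut.cyc_isThreeCycle (four01 hn) ((four_inj hn).ne (by decide : (0 : Fin 4) ≠ 2))
        ((four_inj hn).ne (by decide : (1 : Fin 4) ≠ 2))).orderOf
      show (CfsgLib.Perm.Groups.AltAut.cyc (four hn 0) (four hn 1) (four hn 2)) ^ 3 = 1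
      exact orderOf_dvd_iff_pow_eq_one.1 h.dvd
    obtain ⟨ψ, hψ⟩ := hhom3 G (fun i => g' (Sum.inr i))
      (fun w hw => by
        rw [← hmap30]; exact hg' _ (by simp only [List.mem_append, List.mem_map]; exact Or.inl (Or.inr ⟨w, hw, rfl⟩)))
      hcube
    have hψ' : ∀ v, FreeGroup.lift g' (in3 v) = ψ (FreeGroup.lift g3 v) := fun v => by
      rw [hmap30, ← lift_comp_hom]
      simp only [hψ]
    rw [hψ', hw3] at hcw
    have hW' : ∀ w, FreeGroup.lift g' (W w) = both ρ ψ w := fun w =>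
      DFunLike.congr_fun (FreeGroup.ext_hom ((FreeGroup.lift g').comp W) (both ρ ψ) fun x => by
        rcases x with σ | s
        · simp [W, both, hρ', hwA']
        · simp [W, both, hψ', hw3]) w
    have hG := hglue G ρ ψ hcw fun w hw => by
      rw [← hW']; exact hg' _ (by simp only [List.mem_append, List.mem_cons, List.mem_map]; exact Or.inr (Or.inr ⟨w, hw, rfl⟩))
    obtain ⟨φ, hφA, hφ3⟩ := hG.exists_hom
    have hφe : φ.comp e = ψ := sl_hom_ext fun i j h c => by
      rw [MonoidHom.comp_apply, ← slX_eq h, he i j h, hφ3 i j h]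
    refine ⟨φ, fun v _ => ?_⟩
    refine DFunLike.congr_fun (FreeGroup.ext_hom (φ.comp (FreeGroup.lift g)) (FreeGroup.lift g') fun x => ?_) v
    rcases x with i | i
    · have := hρ (FreeGroup.of i) (hVA _)
      simp only [FreeGroup.lift_apply_of] at this
      simp [g, hφA, this]
    · show φ (FreeGroup.lift g (FreeGroup.of (Sum.inr i))) = _
      rw [FreeGroup.lift_apply_of, FreeGroup.lift_apply_of, ← hψ i, ← hφe]
      rfl

/-- the letters -/
abbrev la (σ : alternatingGroup (Fin n)) :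
    FreeGroup (alternatingGroup (Fin n) ⊕ Matrix.SpecialLinearGroup (Fin 3) F) := FreeGroup.of (Sum.inl σ)

/-- the letters -/
abbrev lb (s : Matrix.SpecialLinearGroup (Fin 3) F) :
    FreeGroup (alternatingGroup (Fin n) ⊕ Matrix.SpecialLinearGroup (Fin 3) F) := FreeGroup.of (Sum.inr s)

/-- the permutation `(0 2)(1 3)` -/
def beta (hn : 4 ≤ n) : alternatingGroup (Fin n) :=
  sw2 (four_ne hn (show (0 : Fin 4) ≠ 2 by decide)) (four_ne hn (show (1 : Fin 4) ≠ 3 by decide))

theorem beta_four (hn : 4 ≤ n) :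
    (beta hn).1 (four hn 0) = four hn 2 ∧ (beta hn).1 (four hn 1) = four hn 3 :=
  ⟨by rw [beta, sw2_four]; rfl, by rw [beta, sw2_four]; rfl⟩

/-- the disjointness relator -/
def disRel (hn : 4 ≤ n) : FreeGroup (alternatingGroup (Fin n) ⊕ Matrix.SpecialLinearGroup (Fin 3) F) :=
  lb (slX 0 1 1) * (la (beta hn) * lb (slX 0 1 1) * (la (beta hn))⁻¹) * (lb (slX 0 1 1))⁻¹ *
    (la (beta hn) * lb (slX 0 1 1) * (la (beta hn))⁻¹)⁻¹

theorem disRel_val {hn : 4 ≤ n} {e : Matrix.SpecialLinearGroup (Fin 3) F →* Matrix.SpecialLinearGroup (Fin n) F}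
    (he : ∀ i j, i ≠ j → ∀ c, e (slX i j c) = slX (pt hn i) (pt hn j) c) : both pmat e (disRel hn) = 1 := by
  simp only [disRel, both, map_mul, map_inv, FreeGroup.lift_apply_of, Sum.elim_inl, Sum.elim_inr]
  rw [mul_inv_eq_one, mul_inv_eq_iff_eq_mul, he 0 1 (by decide), pmat_conj _ ((pt_inj hn).ne (by decide))]
  obtain ⟨b0, b1⟩ := beta_four hn
  refine stRel_slX.comm ((pt_inj hn).ne (by decide)) ((beta hn).1.injective.ne ((pt_inj hn).ne (by decide))) ?_ ?_ _ _
  · rw [show pt hn 1 = four hn 1 from rfl, b1]; exact four_ne hn (by decide)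
  · rw [show pt hn 0 = four hn 0 from rfl, b0]; exact four_ne hn (by decide)

theorem dis_of_rel {G : Type} [Group G] [Fintype F] {hn : 4 ≤ n} {ρ : alternatingGroup (Fin n) →* G}
    {ψ : Matrix.SpecialLinearGroup (Fin 3) F →* G} (hc : ρ (c3 hn) = ψ P3) (hst : Stable hn ρ (xf ψ))
    (hfl : ∀ a, famX hn ρ (xf ψ) (pt hn 1) (pt hn 0) a = ψ (slX 1 0 a)) (ω : Fˣ)
    (hω : ∀ S : F → Prop, S 0 → S 1 → (∀ b c, S b → S c → S (b + c)) →
        (∀ b, S b → S ((ω : F) ^ 2 * b)) → ∀ b, S b)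
    (h : both ρ ψ (disRel hn) = 1) : Glue hn ρ ψ := by
  refine ⟨hc, hst, hfl, dis_of_one hc hst hfl ω hω ?_⟩
  simp only [disRel, both, map_mul, map_inv, FreeGroup.lift_apply_of, Sum.elim_inl, Sum.elim_inr] at h
  rw [← (beta_four hn).1, ← (beta_four hn).2, famX_eq hst]
  exact mul_inv_eq_iff_eq_mul.1 (mul_inv_eq_one.1 h)

/-- what a permutation fixing the first two points does to the family, from its action on `1` and the torus -/
theorem act_of_two {G : Type*} [Group G] (ψ : Matrix.SpecialLinearGroup (Fin 3) F →* G) (g : G) (ω : Fˣ)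
    (hω : ∀ S : F → Prop, S 0 → S 1 → (∀ b c, S b → S c → S (b + c)) →
        (∀ b, S b → S ((ω : F) ^ 2 * b)) → ∀ b, S b) {k l : Fin 3} (hkl : k ≠ l)
    (h1 : g * ψ (slX 0 1 1) * g⁻¹ = ψ (slX k l 1)) (h2 : g * ψ (hdiag 0 1 ω) * g⁻¹ = ψ (hdiag k l ω)) (a : F) :
    g * ψ (slX 0 1 a) * g⁻¹ = ψ (slX k l a) := by
  have h01 : (0 : Fin 3) ≠ 1 := by decide
  have hw : ∀ {i j : Fin 3}, i ≠ j → wgt i j ω i j = (ω : F) ^ 2 := fun h => by
    simp [wgt, Pi.mulSingle_apply, h, h.symm, sq]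
  have hz : ∀ {i j : Fin 3}, i ≠ j → slX i j (0 : F) = 1 := fun h => by
    have := (stRel_slX (F := F) (n := 3)).add h 0 0
    rwa [add_zero, left_eq_mul] at this
  refine hω (fun a => g * ψ (slX 0 1 a) * g⁻¹ = ψ (slX k l a)) ?_ h1 (fun b c hb hc => ?_) (fun b hb => ?_) a
  · rw [hz h01, hz hkl]; simp
  · rw [stRel_slX.add h01, stRel_slX.add hkl, map_mul, map_mul, ← hb, ← hc]; group
  · rw [← hw h01, ← hdiag_conj _ _ _ h01, hw h01, ← hw hkl, ← hdiag_conj _ _ _ hkl, map_mul, map_mul, map_mul,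
      map_mul, map_inv, map_inv, ← hb, ← h2]
    group

theorem sys_four [Finite F] (hn : 4 ≤ n) (h4 : n = 4) {k r : ℕ}
    (hA : HasSysJ (alternatingGroup (Fin n)) k r 0) :
    HasSysJ (Matrix.SpecialLinearGroup (Fin n) F) (k + 4) (r + 13 + (3 + 1)) 0 := by
  classical
  haveI := Fintype.ofFinite F
  obtain ⟨ω, hω, -⟩ := exists_spread F
  let g0 : alternatingGroup (Fin n) :=
    sw2 (four_ne hn (show (0 : Fin 4) ≠ 1 by decide)) (four_ne hn (show (2 : Fin 4) ≠ 3 by decide))
  have e0 : g0.1 (pt hn 0) = pt hn 1 := by rw [pt, sw2_four]; rfl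
  have e1 : g0.1 (pt hn 1) = pt hn 0 := by rw [pt, sw2_four]; rfl
  refine sys_of_links hn hA
    [la g0 * lb (slX 0 1 1) * (la g0)⁻¹ * (lb (slX 1 0 1))⁻¹,
      la g0 * lb (hdiag 0 1 ω) * (la g0)⁻¹ * (lb (hdiag 1 0 ω))⁻¹, disRel hn] le_rfl (fun e he w hw => ?_)
    fun G _ ρ ψ hc h => ?_
  · simp only [List.mem_cons, List.not_mem_nil, or_false] at hw
    rcases hw with rfl | rfl | rfl
    · simp only [both, map_mul, map_inv, FreeGroup.lift_apply_of, Sum.elim_inl, Sum.elim_inr]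
      rw [mul_inv_eq_one, he 0 1 (by decide), he 1 0 (by decide), pmat_conj _ ((pt_inj hn).ne (by decide)), e0, e1]
    · simp only [both, map_mul, map_inv, FreeGroup.lift_apply_of, Sum.elim_inl, Sum.elim_inr]
      rw [mul_inv_eq_one, emb_hdiag he (by decide), emb_hdiag he (by decide), pmat_hdiag, e0, e1]
    · exact disRel_val he
  · simp only [List.forall_mem_cons, List.not_mem_nil, IsEmpty.forall_iff, implies_true, and_true] at h
    obtain ⟨h1, h2, h3⟩ := h
    simp only [both, map_mul, map_inv, FreeGroup.lift_apply_of, Sum.elim_inl, Sum.elim_inr, mul_inv_eq_one] at h1 h2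
    have hst : Stable hn ρ (xf ψ) := by
      intro σ a b c
      have : σ = 1 := by
        subst h4
        have key : ∀ σ : alternatingGroup (Fin 4), σ.1 0 = 0 → σ.1 1 = 1 → σ = 1 := by decide
        exact key σ a b
      simp [this]
    refine dis_of_rel hc hst (fun a => ?_) ω hω h3
    have := famX_eq hst g0 a
    rw [show g0.1 (four hn 0) = pt hn 1 from e0, show g0.1 (four hn 1) = pt hn 0 from e1] at this
    rw [this]
    exact act_of_two ψ _ ω hω (by decide) h1 h2 a

/-- the general step -/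
theorem sys_five [Finite F] (hn : 4 ≤ n) {k r : ℕ} (hA : HasSysJ (alternatingGroup (Fin n)) k r 0)
    (E π : alternatingGroup (Fin n)) (T : List (alternatingGroup (Fin n)))
    (hE : ∀ t, E.1 (pt hn t) = pt hn (Equiv.swap 0 1 t))
    (hπ : π.1 (four hn 0) = four hn 0 ∧ π.1 (four hn 1) = four hn 1)
    (hT : ∀ τ ∈ T, ∀ t, τ.1 (pt hn t) = pt hn t)
    (hgen : ∀ σ : alternatingGroup (Fin n), σ.1 (four hn 0) = four hn 0 → σ.1 (four hn 1) = four hn 1 →
      σ.1 ∈ Subgroup.closure ({(E * E).1, π.1} ∪ {x | ∃ τ ∈ T, x = τ.1} : Set (Equiv.Perm (Fin n)))) :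
    HasSysJ (Matrix.SpecialLinearGroup (Fin n) F) (k + 4) (r + 13 + (4 + T.length + 1)) 0 := by
  classical
  haveI := Fintype.ofFinite F
  obtain ⟨ω, hω, -⟩ := exists_spread F
  obtain ⟨y, hy⟩ := exists_mate_three F
  refine sys_of_links hn hA
    ([la E * lb y * (la E)⁻¹ * (lb (flip3 y))⁻¹, la π * lb (slX 0 1 1) * (la π)⁻¹ * (lb (slX 0 1 1))⁻¹,
      la π * lb (hdiag 0 1 ω) * (la π)⁻¹ * (lb (hdiag 0 1 ω))⁻¹, disRel hn] ++
      T.map fun τ => la τ * lb y * (la τ)⁻¹ * (lb y)⁻¹)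
    (by simp; omega) (fun e he w hw => ?_) fun G _ ρ ψ hc h => ?_
  · simp only [List.mem_append, List.mem_cons, List.not_mem_nil, or_false, List.mem_map] at hw
    have hfix : ∀ t : Fin 3, (t = 0 ∨ t = 1) → π.1 (pt hn t) = pt hn t := fun t ht => by
      rcases ht with rfl | rfl
      exacts [hπ.1, hπ.2]
    rcases hw with (rfl | rfl | rfl | rfl) | ⟨τ, hτ, rfl⟩
    · simp only [both, map_mul, map_inv, FreeGroup.lift_apply_of, Sum.elim_inl, Sum.elim_inr]
      rw [mul_inv_eq_one]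
      have : (MulAut.conj (pmat (F := F) E)).toMonoidHom.comp e = e.comp flip3 :=
        sl_hom_ext fun i j h c => by
          show pmat E * e _ * (pmat E)⁻¹ = e (flip3 _)
          rw [← slX_eq h, he i j h, flip3_slX h, he _ _ ((Equiv.swap 0 1).injective.ne h),
            pmat_conj _ ((pt_inj hn).ne h), hE, hE]
      exact DFunLike.congr_fun this y
    · simp only [both, map_mul, map_inv, FreeGroup.lift_apply_of, Sum.elim_inl, Sum.elim_inr]
      rw [mul_inv_eq_one, he 0 1 (by decide), pmat_conj _ ((pt_inj hn).ne (by decide)), hfix 0 (Or.inl rfl),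
        hfix 1 (Or.inr rfl)]
    · simp only [both, map_mul, map_inv, FreeGroup.lift_apply_of, Sum.elim_inl, Sum.elim_inr]
      rw [mul_inv_eq_one, emb_hdiag he (by decide), pmat_hdiag, hfix 0 (Or.inl rfl), hfix 1 (Or.inr rfl)]
    · exact disRel_val he
    · simp only [both, map_mul, map_inv, FreeGroup.lift_apply_of, Sum.elim_inl, Sum.elim_inr]
      rw [mul_inv_eq_one]
      have : (MulAut.conj (pmat (F := F) τ)).toMonoidHom.comp e = e :=
        sl_hom_ext fun i j h c => by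
          show pmat τ * e _ * (pmat τ)⁻¹ = e _
          rw [← slX_eq h, he i j h, pmat_conj _ ((pt_inj hn).ne h), hT τ hτ, hT τ hτ]
      exact DFunLike.congr_fun this y
  · simp only [List.forall_mem_append, List.forall_mem_cons, List.not_mem_nil, IsEmpty.forall_iff, implies_true,
      and_true, List.forall_mem_map] at h
    obtain ⟨⟨h1, h2, h3, h4⟩, h5⟩ := h
    simp only [both, map_mul, map_inv, FreeGroup.lift_apply_of, Sum.elim_inl, Sum.elim_inr, mul_inv_eq_one] at h1 h2 h3 h5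
    -- conjugation by `E` is the flip
    have flipE : ∀ s, ρ E * ψ s * (ρ E)⁻¹ = ψ (flip3 s) := by
      have hcE : E * c3 hn * E⁻¹ = (c3 hn)⁻¹ := by
        apply Subtype.ext
        show E.1 * (Equiv.swap (pt hn 0) (pt hn 1) * Equiv.swap (pt hn 1) (pt hn 2)) * E.1⁻¹ =
          (Equiv.swap (pt hn 0) (pt hn 1) * Equiv.swap (pt hn 1) (pt hn 2))⁻¹
        rw [← conj_mul, ← Equiv.swap_apply_apply, ← Equiv.swap_apply_apply, hE, hE, hE, eq_inv_iff_mul_eq_one]
        have n01 : pt hn 0 ≠ pt hn 1 := (pt_inj hn).ne (by decide)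
        have n02 : pt hn 0 ≠ pt hn 2 := (pt_inj hn).ne (by decide)
        have n12 : pt hn 1 ≠ pt hn 2 := (pt_inj hn).ne (by decide)
        ext x
        simp only [show Equiv.swap (0 : Fin 3) 1 0 = 1 from rfl, show Equiv.swap (0 : Fin 3) 1 1 = 0 from rfl,
          show Equiv.swap (0 : Fin 3) 1 2 = 2 from rfl, Equiv.Perm.mul_apply, Equiv.swap_apply_def,
          Equiv.Perm.one_apply]
        grind
      have : (MulAut.conj (ρ E)).toMonoidHom.comp ψ = ψ.comp flip3 := by
        refine MonoidHom.eq_of_eqOn_dense hy fun s hs => ?_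
        show ρ E * ψ s * (ρ E)⁻¹ = ψ (flip3 s)
        rcases hs with rfl | rfl
        · rw [← hc, ← map_mul, ← map_inv, ← map_mul, hcE, flip3_P3, map_inv ψ, ← hc, map_inv ρ]
        · exact h1
      exact fun s => DFunLike.congr_fun this s
    have hff : ∀ s : Matrix.SpecialLinearGroup (Fin 3) F, flip3 (flip3 s) = s := fun s => by
      apply Subtype.ext
      show (s.1.submatrix _ _).submatrix _ _ = _
      ext i j
      simp
    have hTall : ∀ τ ∈ T, ∀ s, ρ τ * ψ s * (ρ τ)⁻¹ = ψ s := by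
      intro τ hτ
      have hcτ : τ * c3 hn * τ⁻¹ = c3 hn := by
        apply Subtype.ext
        show τ.1 * (Equiv.swap (pt hn 0) (pt hn 1) * Equiv.swap (pt hn 1) (pt hn 2)) * τ.1⁻¹ = _
        rw [← conj_mul, ← Equiv.swap_apply_apply, ← Equiv.swap_apply_apply, hT τ hτ, hT τ hτ, hT τ hτ]
        rfl
      have : (MulAut.conj (ρ τ)).toMonoidHom.comp ψ = ψ := by
        refine MonoidHom.eq_of_eqOn_dense hy fun s hs => ?_
        show ρ τ * ψ s * (ρ τ)⁻¹ = ψ s
        rcases hs with rfl | rfl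
        · rw [← hc, ← map_mul, ← map_inv, ← map_mul, hcτ]
        · exact h5 τ hτ
      exact fun s => DFunLike.congr_fun this s
    have hst : Stable hn ρ (xf ψ) := by
      intro σ a b c
      let K : Subgroup (alternatingGroup (Fin n)) :=
        { carrier := {σ | ∀ c, ρ σ * xf ψ c * (ρ σ)⁻¹ = xf ψ c}
          one_mem' := fun c => by simp
          mul_mem' := fun {x y} hx hy c => by
            rw [map_mul]
            calc ρ x * ρ y * xf ψ c * (ρ x * ρ y)⁻¹ = ρ x * (ρ y * xf ψ c * (ρ y)⁻¹) * (ρ x)⁻¹ := by group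
              _ = _ := by rw [hy c, hx c]
          inv_mem' := fun {x} hx c => by
            rw [map_inv]
            calc (ρ x)⁻¹ * xf ψ c * (ρ x)⁻¹⁻¹ = (ρ x)⁻¹ * (ρ x * xf ψ c * (ρ x)⁻¹) * ρ x := by rw [hx c]; group
              _ = _ := by group }
      suffices σ ∈ K from this c
      suffices hle : ({(E * E).1, π.1} ∪ {x | ∃ τ ∈ T, x = τ.1} : Set (Equiv.Perm (Fin n))) ⊆
          (K.map (alternatingGroup (Fin n)).subtype : Subgroup _) by
        obtain ⟨τ, hτ, e⟩ := (Subgroup.closure_le _).2 hle (hgen σ a b)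
        rwa [← show τ = σ from Subtype.ext e]
      intro x hx
      rcases hx with (rfl | rfl) | ⟨τ, hτ, rfl⟩
      · refine ⟨E * E, fun c => ?_, rfl⟩
        rw [map_mul, show ρ E * ρ E * xf ψ c * (ρ E * ρ E)⁻¹ = ρ E * (ρ E * xf ψ c * (ρ E)⁻¹) * (ρ E)⁻¹ by group,
          xf, flipE, flipE, hff]
      · exact ⟨π, fun c => act_of_two ψ _ ω hω (by decide) h2 h3 c, rfl⟩
      · exact ⟨τ, fun c => hTall τ hτ _, rfl⟩
    refine dis_of_rel hc hst (fun a => ?_) ω hω h4
    have := famX_eq hst E a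
    rw [show E.1 (four hn 0) = pt hn 1 from hE 0, show E.1 (four hn 1) = pt hn 0 from hE 1] at this
    rw [this, xf, flipE, flip3_slX (by decide)]
    rfl

/-- the systems -/
theorem sys_sl_three_gens [Finite F] (hn : 4 ≤ n) :
    HasSysJ (Matrix.SpecialLinearGroup (Fin n) F) 7 25 0 ∧
      (n = 4 → HasSysJ (Matrix.SpecialLinearGroup (Fin n) F) 6 21 0) ∧
      (n = 5 → HasSysJ (Matrix.SpecialLinearGroup (Fin n) F) 6 22 0) := by
  classical
  -- five at most
  have hfive : n = 5 → ∀ {k r : ℕ}, HasSysJ (alternatingGroup (Fin n)) k r 0 →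
      HasSysJ (Matrix.SpecialLinearGroup (Fin n) F) (k + 4) (r + 13 + 5) 0 := by
    rintro rfl k r hA
    refine sys_five hn hA
      (sw2 (show (0 : Fin 5) ≠ 1 by decide) (show (3 : Fin 5) ≠ 4 by decide))
      (sw2 (show (2 : Fin 5) ≠ 3 by decide) (show (3 : Fin 5) ≠ 4 by decide)) [] (fun t => ?_) ⟨?_, ?_⟩ (by simp)
      fun σ a b => ?_
    · fin_cases t <;> rfl
    · rfl
    · rfl
    · set π : alternatingGroup (Fin 5) := sw2 (show (2 : Fin 5) ≠ 3 by decide) (show (3 : Fin 5) ≠ 4 by decide)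
      have key : ∀ σ : alternatingGroup (Fin 5), σ.1 0 = 0 → σ.1 1 = 1 → σ = 1 ∨ σ = π ∨ σ = π * π := by decide
      have hπ : π.1 ∈ Subgroup.closure ({((sw2 (show (0 : Fin 5) ≠ 1 by decide) (show (3 : Fin 5) ≠ 4 by decide) :
          alternatingGroup (Fin 5)) * sw2 (show (0 : Fin 5) ≠ 1 by decide) (show (3 : Fin 5) ≠ 4 by decide)).1, π.1} ∪
            {x | ∃ τ ∈ ([] : List (alternatingGroup (Fin 5))), x = τ.1} : Set (Equiv.Perm (Fin 5))) :=
        Subgroup.subset_closure (Or.inl (Or.inr rfl))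
      rcases key σ a b with rfl | rfl | rfl
      · exact one_mem _
      · exact hπ
      · exact mul_mem hπ hπ
  -- from six on
  have hsix : ∀ (h : 6 ≤ n) {k r : ℕ}, HasSysJ (alternatingGroup (Fin n)) k r 0 →
      HasSysJ (Matrix.SpecialLinearGroup (Fin n) F) (k + 4) (r + 13 + 6) 0 := by
    intro h6 k r hA
    let p : Fin 6 → Fin n := Fin.castLE h6
    have pne : ∀ {i j : Fin 6}, i ≠ j → p i ≠ p j := fun h => (Fin.castLE_injective h6).ne h
    have hp : ∀ t : Fin 3, pt hn t = p (Fin.castLE (show 3 ≤ 6 by decide) t) := fun t => Fin.ext rfl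
    obtain ⟨π, h0, h1, hgen⟩ := exists_stab_mate (a := four hn 0) (b := four hn 1) (x := p 3) (y := p 4) (z := p 5)
      (fun t ht => by
        simp only [Finset.mem_insert, Finset.mem_singleton] at ht
        rcases ht with rfl | rfl | rfl <;> simp [p, four, Fin.ext_iff])
      (pne (by decide)) (pne (by decide)) (pne (by decide))
    let τ : alternatingGroup (Fin n) := sw2 (pne (show (3 : Fin 6) ≠ 4 by decide)) (pne (show (4 : Fin 6) ≠ 5 by decide))
    refine sys_five hn hA (sw2 (pne (show (0 : Fin 6) ≠ 1 by decide)) (pne (show (3 : Fin 6) ≠ 4 by decide))) π [τ]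
      (fun t => ?_) ⟨h0, h1⟩ (fun τ' hτ t => ?_) fun σ a b => ?_
    · show Equiv.swap _ _ (Equiv.swap _ _ (pt hn t)) = _
      rw [hp, hp, (Fin.castLE_injective h6).swap_apply, (Fin.castLE_injective h6).swap_apply]
      congr 1
      revert t; decide
    · obtain rfl : τ' = τ := List.mem_singleton.1 hτ
      show Equiv.swap _ _ (Equiv.swap _ _ (pt hn t)) = _
      rw [hp, (Fin.castLE_injective h6).swap_apply, (Fin.castLE_injective h6).swap_apply]
      congr 1
      revert t; decide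
    · refine (Subgroup.closure_le _).2 ?_ (hgen σ a b)
      rintro x (rfl | rfl)
      · exact Subgroup.subset_closure (Or.inr ⟨τ, List.mem_singleton_self _, rfl⟩)
      · exact Subgroup.subset_closure (Or.inl (Or.inr rfl))
  -- from eight on
  have height : ∀ (h : 8 ≤ n) {k r : ℕ}, HasSysJ (alternatingGroup (Fin n)) k r 0 →
      HasSysJ (Matrix.SpecialLinearGroup (Fin n) F) (k + 4) (r + 13 + 5) 0 := by
    intro h8 k r hA
    let p : Fin 8 → Fin n := Fin.castLE h8
    have pne : ∀ {i j : Fin 8}, i ≠ j → p i ≠ p j := fun h => (Fin.castLE_injective h8).ne h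
    have hp : ∀ t : Fin 3, pt hn t = p (Fin.castLE (show 3 ≤ 8 by decide) t) := fun t => Fin.ext rfl
    obtain ⟨π, h0, h1, hgen⟩ := exists_stab_mate (a := four hn 0) (b := four hn 1) (x := p 5) (y := p 6) (z := p 7)
      (fun t ht => by
        simp only [Finset.mem_insert, Finset.mem_singleton] at ht
        rcases ht with rfl | rfl | rfl <;> simp [p, four, Fin.ext_iff])
      (pne (by decide)) (pne (by decide)) (pne (by decide))
    set E : alternatingGroup (Fin n) :=
      sw2 (pne (show (0 : Fin 8) ≠ 1 by decide)) (pne (show (3 : Fin 8) ≠ 4 by decide)) *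
        sw2 (pne (show (5 : Fin 8) ≠ 6 by decide)) (pne (show (6 : Fin 8) ≠ 7 by decide)) with hEdef
    refine sys_five hn hA E π [] (fun t => ?_) ⟨h0, h1⟩ (by simp) fun σ a b => ?_
    · show Equiv.swap _ _ (Equiv.swap _ _ (Equiv.swap _ _ (Equiv.swap _ _ (pt hn t)))) = _
      rw [hp, hp, (Fin.castLE_injective h8).swap_apply, (Fin.castLE_injective h8).swap_apply,
        (Fin.castLE_injective h8).swap_apply, (Fin.castLE_injective h8).swap_apply]
      congr 1
      revert t; decide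
    · have key : ∀ i : Fin 8,
          (Equiv.swap 0 1 * Equiv.swap 3 4 * (Equiv.swap 5 6 * Equiv.swap 6 7) : Equiv.Perm (Fin 8)) ((Equiv.swap 0 1 *
            Equiv.swap 3 4 * (Equiv.swap 5 6 * Equiv.swap 6 7) : Equiv.Perm (Fin 8)) ((Equiv.swap 0 1 * Equiv.swap 3 4 *
            (Equiv.swap 5 6 * Equiv.swap 6 7) : Equiv.Perm (Fin 8)) ((Equiv.swap 0 1 * Equiv.swap 3 4 *
            (Equiv.swap 5 6 * Equiv.swap 6 7) : Equiv.Perm (Fin 8)) i))) =
            (Equiv.swap 5 6 * Equiv.swap 6 7 : Equiv.Perm (Fin 8)) i := by decide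
      have hEp : ∀ i, E.1 (p i) = p ((Equiv.swap 0 1 * Equiv.swap 3 4 * (Equiv.swap 5 6 * Equiv.swap 6 7) : Equiv.Perm (Fin 8)) i) := by
        intro i
        show Equiv.swap _ _ (Equiv.swap _ _ (Equiv.swap _ _ (Equiv.swap _ _ (p i)))) = _
        rw [(Fin.castLE_injective h8).swap_apply, (Fin.castLE_injective h8).swap_apply,
          (Fin.castLE_injective h8).swap_apply, (Fin.castLE_injective h8).swap_apply]
        rfl
      have hEo : ∀ x, (∀ i, x ≠ p i) → E.1 x = x := by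
        intro x hx
        show Equiv.swap _ _ (Equiv.swap _ _ (Equiv.swap _ _ (Equiv.swap _ _ x))) = x
        simp only [Equiv.swap_apply_of_ne_of_ne (hx _) (hx _)]
      have e4 : ((E * E) * (E * E)).1 = Equiv.swap (p 5) (p 6) * Equiv.swap (p 6) (p 7) := by
        ext x
        simp only [Subgroup.coe_mul, Equiv.Perm.mul_apply]
        by_cases hx : ∃ i, x = p i
        · obtain ⟨i, rfl⟩ := hx
          rw [hEp, hEp, hEp, hEp, key, (Fin.castLE_injective h8).swap_apply, (Fin.castLE_injective h8).swap_apply]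
          rfl
        · push Not at hx
          rw [hEo x hx, hEo x hx, hEo x hx, hEo x hx, Equiv.swap_apply_of_ne_of_ne (hx _) (hx _),
            Equiv.swap_apply_of_ne_of_ne (hx _) (hx _)]
      refine (Subgroup.closure_le _).2 ?_ (hgen σ a b)
      rintro x (rfl | rfl)
      · rw [← e4]
        exact mul_mem (Subgroup.subset_closure (Or.inl (Or.inl rfl))) (Subgroup.subset_closure (Or.inl (Or.inl rfl)))
      · exact Subgroup.subset_closure (Or.inl (Or.inr rfl))
  obtain ⟨⟨R2, hR2, ⟨e2⟩⟩, -⟩ := altSym_two_fin n (by omega)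
  have hA2 : HasSysJ (alternatingGroup (Fin n)) 2 (3 + (n - 2) / 2) 0 :=
    (HasSysJ.of_presentation R2 e2).mono hR2 le_rfl
  refine ⟨?_, fun h => ?_, fun h => ?_⟩
  · rcases Nat.lt_or_ge n 8 with h | h
    · rcases Nat.lt_or_ge n 6 with h' | h'
      · rcases (show n = 4 ∨ n = 5 by omega) with e | e
        · exact (sys_four hn e hA2).pad.mono (by subst e; norm_num) le_rfl
        · exact (hfive e hA2).pad.mono (by subst e; norm_num) le_rfl
      · exact (hsix h' hA2).pad.mono (by omega) le_rfl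
    · obtain ⟨⟨R3, hR3, ⟨e3⟩⟩, -⟩ := altSym_three n (by omega)
      exact (height h ((HasSysJ.of_presentation R3 e3).mono hR3 le_rfl)).mono (by omega) le_rfl
  · exact (sys_four hn h hA2).mono (by subst h; norm_num) le_rfl
  · exact (hfive h hA2).mono (by subst h; norm_num) le_rfl

end CfsgLib.Lie.BoundedPres
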