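import Cfsg.Agent.Lib.Lie.BoundedPres.SLMat
import Cfsg.Agent.Lib.Lie.BoundedPres.AltStab
import Cfsg.Agent.Lib.Lie.ShortPres.SL3

/-!
# Matrices in `SL₃` and `SL_n` for gluing `SL₃(F)` to the alternating group
-/

set_option autoImplicit false

namespace CfsgLib.Lie.BoundedPres

open Matrix CfsgLib.Lie.ShortPres CfsgLib.Char.SingleBond

variable {F : Type*} [Field F] {n : ℕ}

theorem slX_mulVec {i j : Fin n} (h : i ≠ j) (c : F) (v : Fin n → F) :
    (slX i j c).1 *ᵥ v = v + Pi.single i (c * v j) := by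
  rw [slX_eq h]; exact transvection_mulVec h c v

theorem sl_ext {M N : Matrix.SpecialLinearGroup (Fin n) F} (h : ∀ v, M.1 *ᵥ v = N.1 *ᵥ v) : M = N :=
  Subtype.ext (Matrix.ext_of_mulVec_single fun i => h _)

/-- the element `w(a)` on a pair -/
def wel (i j : Fin n) (a : F) : Matrix.SpecialLinearGroup (Fin n) F := slX i j a * slX j i (-a⁻¹) * slX i j a

theorem wel_mulVec {i j : Fin n} (h : i ≠ j) {a : F} (ha : a ≠ 0) (v : Fin n → F) :
    (wel i j a).1 *ᵥ v = fun x => if x = i then a * v j else if x = j then -a⁻¹ * v i else v x := by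
  simp only [wel, Matrix.SpecialLinearGroup.coe_mul, ← mulVec_mulVec, slX_mulVec h, slX_mulVec h.symm]
  funext x
  by_cases hi : x = i
  · subst hi
    simp [h, h.symm]
    field_simp
    ring
  · by_cases hj : x = j
    · subst hj
      simp [h, h.symm]
      field_simp
      ring
    · simp [hi, hj]

theorem hdiag_mulVec (i j : Fin n) (a : Fˣ) (v : Fin n → F) :
    (hdiag i j a).1 *ᵥ v = fun x => (Pi.mulSingle i (a : F) : Fin n → F) x *
      (Pi.mulSingle j ((a⁻¹ : Fˣ) : F) : Fin n → F) x * v x := by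
  funext x
  rw [coe_hdiag, mulVec_diagonal]

theorem hdiag_eq {i j : Fin n} (h : i ≠ j) (a : Fˣ) : hdiag i j a = wel i j (a : F) * wel i j (-1) := by
  refine sl_ext fun v => ?_
  rw [Matrix.SpecialLinearGroup.coe_mul, ← mulVec_mulVec, wel_mulVec h a.ne_zero, wel_mulVec h (by simp),
    hdiag_mulVec]
  funext x
  by_cases hi : x = i
  · subst hi; simp [h, h.symm, Pi.mulSingle_apply]
  · by_cases hj : x = j
    · subst hj; simp [h, h.symm, Pi.mulSingle_apply]
    · simp [hi, hj, Pi.mulSingle_apply]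

theorem hdiag_mul (i j : Fin n) (a b : Fˣ) : hdiag (F := F) i j (a * b) = hdiag i j a * hdiag i j b := by
  refine sl_ext fun v => ?_
  rw [Matrix.SpecialLinearGroup.coe_mul, ← mulVec_mulVec, hdiag_mulVec, hdiag_mulVec, hdiag_mulVec]
  funext x
  simp only [Pi.mulSingle_apply]
  split_ifs <;> simp [mul_comm, mul_left_comm] <;> field_simp

theorem hdiag_one (i j : Fin n) : hdiag (F := F) i j 1 = 1 := by
  refine sl_ext fun v => ?_
  rw [hdiag_mulVec]
  simp

theorem hdiag_pow (i j : Fin n) (a : Fˣ) (k : ℕ) : hdiag (F := F) i j a ^ k = hdiag i j (a ^ k) := by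
  induction k with
  | zero => rw [pow_zero, pow_zero, hdiag_one]
  | succ k ih => rw [pow_succ, pow_succ, ih, hdiag_mul]

theorem pmat_mulVec (σ : alternatingGroup (Fin n)) (v : Fin n → F) :
    (pmat σ : Matrix.SpecialLinearGroup (Fin n) F).1 *ᵥ v = fun x => v (σ.1.symm x) := by
  funext x
  rw [mulVec, dotProduct, Finset.sum_eq_single (σ.1.symm x)]
  · simp [pmat_apply]
  · intro y _ hy
    rw [pmat_apply, if_neg (fun e => hy (by rw [← e]; simp)), zero_mul]
  · simp

theorem pmat_three {a b c : Fin n} (hab : a ≠ b) (hac : a ≠ c) (hbc : b ≠ c) (σ : alternatingGroup (Fin n))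
    (hσ : σ.1 = Equiv.swap a b * Equiv.swap b c) :
    (pmat σ : Matrix.SpecialLinearGroup (Fin n) F) = wel a b (-1) * wel b c (-1) := by
  refine sl_ext fun v => ?_
  rw [pmat_mulVec, Matrix.SpecialLinearGroup.coe_mul, ← mulVec_mulVec, wel_mulVec hab (by simp),
    wel_mulVec hbc (by simp)]
  funext x
  have e : σ.1.symm x = Equiv.swap b c (Equiv.swap a b x) := by
    rw [Equiv.symm_apply_eq, hσ]; simp
  simp only [e]
  by_cases hxa : x = a
  · subst hxa; simp [hab, hac, Equiv.swap_apply_of_ne_of_ne]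
  · by_cases hxb : x = b
    · subst hxb; simp [hab, hac, hab.symm, Equiv.swap_apply_of_ne_of_ne]
    · by_cases hxc : x = c
      · subst hxc; simp [hab, hac.symm, hbc, hbc.symm, hab.symm, Equiv.swap_apply_of_ne_of_ne]
      · simp [hxa, hxb, hxc, Equiv.swap_apply_of_ne_of_ne]

/-- the block embedding -/
theorem exists_emb [Finite F] {m : ℕ} (hm : 3 ≤ m) (f : Fin m → Fin n) (hf : Function.Injective f) :
    ∃ e : Matrix.SpecialLinearGroup (Fin m) F →* Matrix.SpecialLinearGroup (Fin n) F,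
      ∀ i j, i ≠ j → ∀ c, e (slX i j c) = slX (f i) (f j) c := by
  have R : StRel (fun i j (c : F) => slX (f i) (f j) c) :=
    { add := fun {i j} h => stRel_slX.add (hf.ne h)
      comm := fun {i j k l} a b c d => stRel_slX.comm (hf.ne a) (hf.ne b) (hf.ne c) (hf.ne d)
      prod := fun {i j k} a b c => stRel_slX.prod (hf.ne a) (hf.ne b) (hf.ne c) }
  obtain ⟨e, he⟩ := R.exists_hom hm
  exact ⟨e, fun i j h c => by rw [slX_eq h]; exact he i j h c⟩

/-- the three-cycle on three points -/
def c3A : alternatingGroup (Fin 3) :=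
  ⟨Equiv.swap 0 1 * Equiv.swap 1 2, by rw [Equiv.Perm.mem_alternatingGroup]; decide⟩

theorem c3A_apply : ∀ k : Fin 3, c3A.1 k = k + 1 := by decide

/-- its matrix -/
def P3 : Matrix.SpecialLinearGroup (Fin 3) F := pmat c3A

theorem P3_conj {k l : Fin 3} (h : k ≠ l) (b : F) : P3 * slX k l b * P3⁻¹ = slX (k + 1) (l + 1) b := by
  rw [P3, pmat_conj _ h, c3A_apply, c3A_apply]

theorem gc_eq_P3 (h2 : (2 : F) = 0) : (gc : Matrix.SpecialLinearGroup (Fin 3) F) = P3 := by
  have : (-1 : F) = 1 := by linear_combination (-1 : F) * h2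
  apply Subtype.ext
  ext i j
  rw [P3, pmat_apply]
  fin_cases i <;> fin_cases j <;> simp [gc, c3A_apply, this]

/-- conjugation by the transposition of the first two coordinates -/
def flip3 : Matrix.SpecialLinearGroup (Fin 3) F →* Matrix.SpecialLinearGroup (Fin 3) F where
  toFun M := ⟨M.1.submatrix (Equiv.swap 0 1) (Equiv.swap 0 1), by rw [Matrix.det_submatrix_equiv_self]; exact M.2⟩
  map_one' := Subtype.ext (by simp)
  map_mul' M N := Subtype.ext (by
    show (M.1 * N.1).submatrix _ _ = M.1.submatrix _ _ * N.1.submatrix _ _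
    rw [Matrix.submatrix_mul_equiv])

theorem flip3_slX {k l : Fin 3} (h : k ≠ l) (b : F) :
    flip3 (slX k l b) = slX (Equiv.swap 0 1 k) (Equiv.swap 0 1 l) b := by
  apply Subtype.ext
  show (slX k l b).1.submatrix _ _ = _
  rw [coe_slX h, coe_slX ((Equiv.swap 0 1).injective.ne h)]
  ext i j
  fin_cases k <;> fin_cases l <;> fin_cases i <;> fin_cases j <;>
    first | exact absurd rfl h | simp [Matrix.single, Matrix.one_apply, Equiv.swap_apply_def]

theorem flip3_P3 : flip3 (P3 : Matrix.SpecialLinearGroup (Fin 3) F) = P3⁻¹ := by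
  apply Subtype.ext
  rw [P3, ← map_inv]
  show (pmat c3A).1.submatrix _ _ = _
  ext i j
  rw [Matrix.submatrix_apply, pmat_apply, pmat_apply]
  fin_cases i <;> fin_cases j <;> simp (config := { decide := true }) [c3A]

theorem top_of_x01 (H : Subgroup (Matrix.SpecialLinearGroup (Fin 3) F)) (hP : P3 ∈ H)
    (hx : ∀ b, slX 0 1 b ∈ H) : H = ⊤ := by
  have hs : ∀ {k l : Fin 3}, k ≠ l → (∀ b, slX k l b ∈ H) → ∀ b, slX (k + 1) (l + 1) b ∈ H :=
    fun {k l} h hb b => by rw [← P3_conj h]; exact mul_mem (mul_mem hP (hb b)) (inv_mem hP)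
  have h12 := hs (by decide) hx
  have h20 : ∀ b, slX (n := 3) 2 0 b ∈ H := hs (show (1 : Fin 3) ≠ 2 by decide) h12
  have h02 : ∀ b, slX (n := 3) 0 2 b ∈ H := fun b => by
    have e := stRel_slX.prod (F := F) (show (0 : Fin 3) ≠ 1 by decide) (show (1 : Fin 3) ≠ 2 by decide)
      (show (0 : Fin 3) ≠ 2 by decide) b 1
    rw [mul_one] at e
    rw [← e]
    exact mul_mem (mul_mem (mul_mem (hx _) (h12 _)) (inv_mem (hx _))) (inv_mem (h12 _))
  have h10 : ∀ b, slX (n := 3) 1 0 b ∈ H := hs (show (0 : Fin 3) ≠ 2 by decide) h02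
  have h21 : ∀ b, slX (n := 3) 2 1 b ∈ H := hs (show (1 : Fin 3) ≠ 0 by decide) h10
  refine CfsgLib.Classical.sl_eq_top _ fun i j hij b => ?_
  rw [← slX_eq hij]
  fin_cases i <;> fin_cases j <;>
    first
    | exact absurd rfl hij
    | exact hx _
    | exact h12 _
    | exact h20 _
    | exact h02 _
    | exact h10 _
    | exact h21 _

theorem exists_spread (F : Type*) [Field F] [Fintype F] :
    ∃ ω : Fˣ, (∀ S : F → Prop, S 0 → S 1 → (∀ b c, S b → S c → S (b + c)) →
        (∀ b, S b → S ((ω : F) ^ 2 * b)) → ∀ b, S b) ∧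
      (Fintype.card F ≠ 4 → ∀ S : F → Prop, S 0 → S 1 → (∀ b c, S b → S c → S (b + c)) →
        (∀ b, S b → S ((ω : F) ^ 3 * b)) → ∀ b, S b) := by
  obtain ⟨p, hchar⟩ := CharP.exists F
  haveI : Fact p.Prime := ⟨CharP.char_is_prime F p⟩
  obtain ⟨N, -, hN⟩ := FiniteField.card F p
  letI : Algebra (ZMod p) F := ZMod.algebra F p
  obtain ⟨ω, hω0, hord, -⟩ := exists_primitive (F := F)
  exact ⟨Units.mk0 ω hω0,
    fun S h0 h1 ha hm => forall_of_generated (p := p) _
      (exists_aeval_eq hN _ (sq_not_fixed hN hω0 hord)) S h0 h1 ha hm,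
    fun h4 S h0 h1 ha hm => forall_of_generated (p := p) _
      (exists_aeval_eq hN _ (cube_not_fixed hN h4 hω0 hord)) S h0 h1 ha hm⟩

/-- `SL₃(F)` is generated by the three-cycle and one more element -/
theorem exists_mate_three (F : Type*) [Field F] [Fintype F] :
    ∃ y : Matrix.SpecialLinearGroup (Fin 3) F,
      Subgroup.closure ({P3, y} : Set (Matrix.SpecialLinearGroup (Fin 3) F)) = ⊤ := by
  classical
  obtain ⟨ω, -, hcube⟩ := exists_spread F
  have h01 : (0 : Fin 3) ≠ 1 := by decide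
  have h02 : (0 : Fin 3) ≠ 2 := by decide
  have h12 : (1 : Fin 3) ≠ 2 := by decide
  have R := stRel_slX (F := F) (n := 3)
  have hx0 : ∀ {i j : Fin 3}, i ≠ j → slX i j (0 : F) = 1 := fun h => by
    have := R.add h 0 0
    rwa [add_zero, left_eq_mul] at this
  by_cases h4 : Fintype.card F = 4
  · -- the field of four elements
    have h2 : (2 : F) = 0 := by
      have := Nat.cast_card_eq_zero F
      rw [h4] at this
      have : (2 : F) * 2 = 0 := by push_cast at this; linear_combination this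
      exact mul_self_eq_zero.1 this
    obtain ⟨w, -, hw⟩ := Finset.exists_mem_notMem_of_card_lt_card
      (show ({0, 1} : Finset F).card < (Finset.univ : Finset F).card by
        rw [Finset.card_univ, h4]; exact lt_of_le_of_lt Finset.card_le_two (by norm_num))
    simp only [Finset.mem_insert, Finset.mem_singleton, not_or] at hw
    have huniv : ∀ b : F, b = 0 ∨ b = 1 ∨ b = w ∨ b = w + 1 := by
      have hc : ({0, 1, w, w + 1} : Finset F) = Finset.univ := by
        apply Finset.eq_univ_of_card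
        have e1 : w + 1 ≠ 0 := fun e => hw.2 (by linear_combination e - h2)
        have e2 : w + 1 ≠ 1 := fun e => hw.1 (by linear_combination e)
        have e3 : w + 1 ≠ w := fun e => one_ne_zero (show (1 : F) = 0 by linear_combination e)
        rw [h4, Finset.card_insert_of_notMem (by simp [Ne.symm hw.1, e1.symm]),
          Finset.card_insert_of_notMem (by simp [Ne.symm hw.2, hw.1]),
          Finset.card_pair e3.symm]
      intro b
      have := hc ▸ Finset.mem_univ b
      simpa using this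
    have hw2 : w * w = w + 1 := by
      rcases huniv (w * w) with h | h | h | h
      · exact absurd (mul_self_eq_zero.1 h) hw.1
      · refine absurd ?_ hw.2
        have : (w - 1) * (w - 1) = 0 := by linear_combination h + (1 - w) * h2
        linear_combination mul_self_eq_zero.1 this
      · refine absurd ?_ hw.2
        exact mul_left_cancel₀ hw.1 (by rw [mul_one]; exact h)
      · exact h
    set y := slX (n := 3) 0 1 (1 : F) * slX 1 2 w with hy
    refine ⟨y, ?_⟩
    set H := Subgroup.closure ({P3, y} : Set (Matrix.SpecialLinearGroup (Fin 3) F))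
    have hP : P3 ∈ H := Subgroup.subset_closure (Set.mem_insert _ _)
    have hyH : y ∈ H := Subgroup.subset_closure (Set.mem_insert_of_mem _ rfl)
    have hs : ∀ {k l : Fin 3} {b : F}, k ≠ l → slX k l b ∈ H → slX (k + 1) (l + 1) b ∈ H :=
      fun {k l b} h hb => by rw [← P3_conj h]; exact mul_mem (mul_mem hP hb) (inv_mem hP)
    have hsq : ∀ a b : F, (slX (n := 3) 0 1 a * slX 1 2 b) * (slX 0 1 a * slX 1 2 b) = slX 0 2 (a * b) := by
      intro a b
      apply Subtype.ext
      simp only [Matrix.SpecialLinearGroup.coe_mul, coe_slX h01, coe_slX h12, coe_slX h02]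
      have e2 : ∀ z : F, z + z = 0 := fun z => by linear_combination z * h2
      ext i j
      fin_cases i <;> fin_cases j <;>
        simp [Matrix.mul_apply, Fin.sum_univ_three, Matrix.single, Matrix.one_apply, e2]
    have k02 : slX (n := 3) 0 2 w ∈ H := by
      have := mul_mem hyH hyH
      rwa [hy, hsq, one_mul] at this
    have k10 : slX (n := 3) 1 0 w ∈ H := hs h02 k02
    have k21 : slX (n := 3) 2 1 w ∈ H := hs (show (1 : Fin 3) ≠ 0 by decide) k10
    have k20 : slX (n := 3) 2 0 (w * w) ∈ H := by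
      rw [← R.prod h12.symm h01.symm h02.symm w w]
      exact mul_mem (mul_mem (mul_mem k21 k10) (inv_mem k21)) (inv_mem k10)
    have k12 : slX (n := 3) 1 2 (w * w) ∈ H := hs h01 (hs h02.symm k20)
    have l02 : slX (n := 3) 0 2 (1 : F) ∈ H := by
      have h1 : slX (n := 3) 0 1 (1 : F) * slX 1 2 1 ∈ H := by
        have := mul_mem hyH k12
        rwa [hy, mul_assoc, ← R.add h12, show w + w * w = 1 by rw [hw2]; linear_combination w * h2] at this
      have := mul_mem h1 h1
      rwa [hsq, one_mul] at this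
    have a02 : ∀ b, slX (n := 3) 0 2 b ∈ H := fun b => by
      rcases huniv b with rfl | rfl | rfl | rfl
      · rw [hx0 h02]; exact one_mem _
      · exact l02
      · exact k02
      · rw [R.add h02]; exact mul_mem k02 l02
    refine top_of_x01 H hP fun b => ?_
    have a10 : slX (n := 3) 1 0 (1 : F) ∈ H := hs h02 l02
    have a21 : slX (n := 3) 2 1 (1 : F) ∈ H := hs (show (1 : Fin 3) ≠ 0 by decide) a10
    rw [show slX (n := 3) 0 1 b = slX 0 1 (b * 1) by rw [mul_one], ← R.prod h02 h12.symm h01 b 1]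
    exact mul_mem (mul_mem (mul_mem (a02 b) a21) (inv_mem (a02 b))) (inv_mem a21)
  · -- a transvection times an element of its centraliser
    set s := hdiag (F := F) (n := 3) 0 2 ω * hdiag 1 2 ω with hs'
    set u := slX (n := 3) 0 1 (1 : F) with hu
    refine ⟨u * s, ?_⟩
    set H := Subgroup.closure ({P3, u * s} : Set (Matrix.SpecialLinearGroup (Fin 3) F))
    have hP : P3 ∈ H := Subgroup.subset_closure (Set.mem_insert _ _)
    have hyH : u * s ∈ H := Subgroup.subset_closure (Set.mem_insert_of_mem _ rfl)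
    have hcom : Commute u s := by
      refine ((mul_inv_eq_iff_eq_mul).1 ?_).symm
      rw [hs', hu, show hdiag (F := F) (n := 3) 0 2 ω * hdiag 1 2 ω * slX 0 1 1 *
          (hdiag 0 2 ω * hdiag 1 2 ω)⁻¹ = hdiag 0 2 ω * (hdiag 1 2 ω * slX 0 1 1 * (hdiag 1 2 ω)⁻¹) *
            (hdiag 0 2 ω)⁻¹ by group, hdiag_conj _ _ _ h01, hdiag_conj _ _ _ h01]
      congr 1
      simp [wgt, Pi.mulSingle_apply]
    have hs1 : s ^ (Fintype.card F - 1) = 1 := by
      have e : ω ^ (Fintype.card F - 1) = 1 := by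
        rw [← Fintype.card_units]; exact pow_card_eq_one
      rw [hs', (hdiag_commute _ _ _ _ _ _).mul_pow, hdiag_pow, hdiag_pow, e, hdiag_one, hdiag_one, one_mul]
    have huH : u ∈ H := by
      have hpow : ∀ k : ℕ, u ^ k = slX 0 1 (k : F) := fun k => by
        induction k with
        | zero => rw [pow_zero, Nat.cast_zero, hx0 h01]
        | succ k ih => rw [pow_succ, ih, hu, ← R.add h01, Nat.cast_succ]
      have h1 : (u * s) ^ (Fintype.card F - 1) = u⁻¹ := by
        rw [hcom.mul_pow, hs1, mul_one, eq_inv_iff_mul_eq_one, ← pow_succ,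
          Nat.sub_add_cancel Fintype.card_pos, hpow, Nat.cast_card_eq_zero, hx0 h01]
      exact (Subgroup.inv_mem_iff _).1 (h1 ▸ pow_mem hyH _)
    have hsH : s ∈ H := by
      have := mul_mem (inv_mem huH) hyH
      rwa [inv_mul_cancel_left] at this
    refine top_of_x01 H hP fun b => hcube h4 (fun b => slX 0 1 b ∈ H) ?_ huH
      (fun a c ha hc => by rw [R.add h01]; exact mul_mem ha hc) (fun a ha => ?_) b
    · rw [hx0 h01]; exact one_mem _
    have htH : (P3 * s * P3⁻¹)⁻¹ ∈ H := inv_mem (mul_mem (mul_mem hP hsH) (inv_mem hP))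
    have := mul_mem (mul_mem htH ha) (inv_mem htH)
    have e : (P3 * s * P3⁻¹)⁻¹ = hdiag (F := F) (n := 3) 2 0 ω⁻¹ * hdiag 1 0 ω⁻¹ := by
      rw [hs', show P3 * (hdiag (F := F) (n := 3) 0 2 ω * hdiag 1 2 ω) * P3⁻¹ =
        (P3 * hdiag 0 2 ω * P3⁻¹) * (P3 * hdiag 1 2 ω * P3⁻¹) by group, P3, pmat_hdiag, pmat_hdiag,
        c3A_apply, c3A_apply, c3A_apply, _root_.mul_inv_rev]
      have hi : ∀ i j : Fin 3, (hdiag (F := F) i j ω)⁻¹ = hdiag i j ω⁻¹ := fun i j =>
        inv_eq_of_mul_eq_one_right (by rw [← hdiag_mul, mul_inv_cancel, hdiag_one])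
      rw [hi, hi]; rfl
    rw [e, show hdiag (F := F) (n := 3) 2 0 ω⁻¹ * hdiag 1 0 ω⁻¹ * slX 0 1 a *
        (hdiag 2 0 ω⁻¹ * hdiag 1 0 ω⁻¹)⁻¹ = hdiag 2 0 ω⁻¹ * (hdiag 1 0 ω⁻¹ * slX 0 1 a * (hdiag 1 0 ω⁻¹)⁻¹) *
          (hdiag 2 0 ω⁻¹)⁻¹ by group, hdiag_conj _ _ _ h01, hdiag_conj _ _ _ h01] at this
    convert this using 2
    simp [wgt, Pi.mulSingle_apply]
    ring

end CfsgLib.Lie.BoundedPres
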